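import Mathlib
import Cfsg.Agent.S0648
import Cfsg.Agent.S0663
import Cfsg.Agent.Lib.H25.Critical

set_option autoImplicit false

namespace Cfsg.Agent.H03.GRepl

open scoped commutatorElement
open Cfsg.Agent.S0648 (cm cm_mul_left' cm_mul_right' cm_one_left cm_one_right cm_swap)

variable {S : Type*} [Group S] [Finite S]

lemma mem_normalizer_of_conj {K : Subgroup S} {x : S} (h : ∀ k ∈ K, x * k * x⁻¹ ∈ K) :
    x ∈ Subgroup.normalizer (K : Set S) := by
  rw [Subgroup.mem_normalizer_iff_map_conj_eq]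
  apply Subgroup.eq_of_le_of_card_ge
  · rintro _ ⟨k, hk, rfl⟩
    exact h k hk
  · rw [Subgroup.card_map_of_injective (MulEquiv.injective _)]

/-- The replacement subgroup -/
abbrev Ast (A : Subgroup S) (b : S) : Subgroup S :=
  (A ⊓ A.map (MulAut.conj (b⁻¹)).toMonoidHom) ⊔ Subgroup.closure {g : S | ∃ a ∈ A, g = a * b⁻¹ * a⁻¹ * b}

/-- commutators generated -/
lemma comm_gen {T D : Subgroup S} {s : Set S} (hT : T = Subgroup.closure s)
    (hc : ∀ t ∈ T, ∀ d ∈ D, t * d = d * t) (hgen : ∀ x ∈ s, ∀ y ∈ s, cm x y ∈ D) :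
    ∀ t ∈ T, ∀ t' ∈ T, cm t t' ∈ D := by
  have h1 : ∀ y ∈ s, ∀ t ∈ T, cm t y ∈ D := by
    intro y hy t ht
    rw [hT] at ht
    induction ht using Subgroup.closure_induction with
    | mem x hx => exact hgen x hx y hy
    | one => rw [cm_one_left]; exact D.one_mem
    | mul u v hu hv ihu ihv =>
      rw [cm_mul_left' u v y (hc u (by rw [hT]; exact hu) _ ihv).symm]
      exact D.mul_mem ihv ihu
    | inv u hu ih =>
      have h2 := cm_mul_left' u⁻¹ u y (hc u⁻¹ (by rw [hT]; exact Subgroup.inv_mem _ hu) _ ih).symm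
      rw [inv_mul_cancel, cm_one_left] at h2
      have h3 : cm u⁻¹ y = (cm u y)⁻¹ := eq_inv_of_mul_eq_one_right h2.symm
      rw [h3]
      exact D.inv_mem ih
  intro t ht t' ht'
  rw [hT] at ht'
  induction ht' using Subgroup.closure_induction with
  | mem x hx => exact h1 x hx t ht
  | one => rw [cm_one_right]; exact D.one_mem
  | mul u v hu hv ihu ihv =>
    rw [cm_mul_right' t u v (hc u (by rw [hT]; exact hu) _ ihv).symm]
    exact D.mul_mem ihu ihv
  | inv u hu ih =>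
    have h2 := cm_mul_right' t u⁻¹ u (hc u⁻¹ (by rw [hT]; exact Subgroup.inv_mem _ hu) _ ih).symm
    rw [inv_mul_cancel, cm_one_right] at h2
    have h3 : cm t u⁻¹ = (cm t u)⁻¹ := eq_inv_of_mul_eq_one_left h2.symm
    rw [h3]
    exact D.inv_mem ih

theorem repl {p : ℕ} [hp : Fact p.Prime] (hS : IsPGroup p S) (B : Subgroup S) [hBn : B.Normal]
    (hB2 : p = 2 → IsMulCommutative B) (A : Subgroup S) (hA : IsMulCommutative A) (hBA : ⁅B, B⁆ ≤ A)
    (hnot : ¬ B ≤ Subgroup.normalizer (A : Set S)) (b : S) (hb : b ∈ B)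
    (hbN : b ∈ Subgroup.normalizer ((Subgroup.normalizer (A : Set S)) : Set S))
    (hbA : b ∉ Subgroup.normalizer (A : Set S)) :
    Nat.card ↥(Ast A b) = Nat.card A ∧ IsMulCommutative ↥(Ast A b) ∧ ⁅B, B⁆ ≤ Ast A b ∧
    A ⊓ B < Ast A b ⊓ B ∧ Ast A b ⊓ B < B ∧ A ≤ Subgroup.normalizer ((Ast A b : Subgroup S) : Set S) ∧
    Ast A b ≤ Subgroup.normalizer (A : Set S) ∧ b ∈ Subgroup.normalizer ((Ast A b : Subgroup S) : Set S) ∧
    Subgroup.normalizer (A : Set S) < Subgroup.normalizer ((Ast A b : Subgroup S) : Set S) ∧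
    (p ≠ 2 → Monoid.exponent ↥(Ast A b) ∣ Monoid.exponent A) := by
  classical
  have hAc : ∀ x ∈ A, ∀ y ∈ A, x * y = y * x := by
    intro x hx y hy
    have := hA.is_comm.comm (⟨x, hx⟩ : A) ⟨y, hy⟩
    exact congrArg Subtype.val this
  set Ab : Subgroup S := A.map (MulAut.conj (b⁻¹)).toMonoidHom with hAbdef
  have hAbmem : ∀ x, x ∈ Ab ↔ b * x * b⁻¹ ∈ A := by
    intro x
    constructor
    · rintro ⟨a, ha, rfl⟩
      have : b * ((MulAut.conj b⁻¹).toMonoidHom a) * b⁻¹ = a := by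
        show b * (b⁻¹ * a * b⁻¹⁻¹) * b⁻¹ = a
        group
      rw [this]
      exact ha
    · intro h
      refine ⟨_, h, ?_⟩
      show b⁻¹ * (b * x * b⁻¹) * b⁻¹⁻¹ = x
      group
  have hAbconj : ∀ a ∈ A, b⁻¹ * a * b ∈ Ab := by
    intro a ha
    rw [hAbmem]
    have : b * (b⁻¹ * a * b) * b⁻¹ = a := by group
    rwa [this]
  set M : Subgroup S := Subgroup.normalizer (A : Set S) with hM
  have hAM : A ≤ M := Subgroup.le_normalizer
  have hMA : ∀ g ∈ M, ∀ x ∈ A, g * x * g⁻¹ ∈ A := fun g hg x hx =>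
    Subgroup.le_normalizer_iff.1 (le_rfl : M ≤ Subgroup.normalizer (A : Set S)) g hg x hx
  have hbM : ∀ g, g ∈ M ↔ b * g * b⁻¹ ∈ M := by
    have := Subgroup.mem_normalizer_iff.1 hbN
    exact this
  have hAbM : Ab ≤ M := by
    intro x hx
    rw [hbM]
    exact hAM ((hAbmem x).1 hx)
  have hMAb : ∀ g ∈ M, ∀ x ∈ Ab, g * x * g⁻¹ ∈ Ab := by
    intro g hg x hx
    rw [hAbmem]
    have h1 : b * (g * x * g⁻¹) * b⁻¹ = (b * g * b⁻¹) * (b * x * b⁻¹) * (b * g * b⁻¹)⁻¹ := by group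
    rw [h1]
    exact hMA _ ((hbM g).1 hg) _ ((hAbmem x).1 hx)
  have hAbc : ∀ x ∈ Ab, ∀ y ∈ Ab, x * y = y * x := by
    intro x hx y hy
    have h1 := hAc _ ((hAbmem x).1 hx) _ ((hAbmem y).1 hy)
    have h2 : b * (x * y) * b⁻¹ = b * (y * x) * b⁻¹ := by
      calc b * (x * y) * b⁻¹ = (b * x * b⁻¹) * (b * y * b⁻¹) := by group
        _ = (b * y * b⁻¹) * (b * x * b⁻¹) := h1
        _ = b * (y * x) * b⁻¹ := by group
    exact mul_left_cancel (mul_right_cancel h2)
  set D : Subgroup S := A ⊓ Ab with hD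
  have hDM : ∀ g ∈ M, ∀ d ∈ D, g * d * g⁻¹ ∈ D := fun g hg d hd =>
    ⟨hMA g hg d hd.1, hMAb g hg d hd.2⟩
  have hcAAb : ∀ u ∈ A, ∀ v ∈ Ab, cm u v ∈ D := by
    intro u hu v hv
    constructor
    · have h1 : cm u v = u * (v * u⁻¹ * v⁻¹) := by unfold cm; group
      rw [h1]
      exact A.mul_mem hu (hMA v (hAbM hv) _ (A.inv_mem hu))
    · show cm u v ∈ Ab
      exact Ab.mul_mem (hMAb u (hAM hu) v hv) (Ab.inv_mem hv)
  set T : Subgroup S := A ⊔ Ab with hT
  have hTM : T ≤ M := sup_le hAM hAbM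
  have hTD : ∀ t ∈ T, ∀ d ∈ D, t * d = d * t := by
    intro t ht d hd
    have h1 : T ≤ Subgroup.centralizer (D : Set S) := by
      apply sup_le
      · intro a ha
        rw [Subgroup.mem_centralizer_iff]
        intro d' hd'
        exact hAc _ hd'.1 _ ha
      · intro a ha
        rw [Subgroup.mem_centralizer_iff]
        intro d' hd'
        exact hAbc _ hd'.2 _ ha
    exact (Subgroup.mem_centralizer_iff.1 (h1 ht) d hd).symm
  have hTcm : ∀ t ∈ T, ∀ t' ∈ T, cm t t' ∈ D := by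
    apply comm_gen (s := (A : Set S) ∪ Ab) _ hTD
    · intro x hx y hy
      rcases hx with hx | hx <;> rcases hy with hy | hy
      · have : cm x y = 1 := by
          unfold cm
          rw [hAc x hx y hy]
          group
        rw [this]; exact D.one_mem
      · exact hcAAb x hx y hy
      · rw [cm_swap y x]
        exact D.inv_mem (hcAAb y hy x hx)
      · have : cm x y = 1 := by
          unfold cm
          rw [hAbc x hx y hy]
          group
        rw [this]; exact D.one_mem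
    · rw [hT, Subgroup.closure_union, Subgroup.closure_eq, Subgroup.closure_eq]
  -- `y`
  let y : S → S := fun a => a * b⁻¹ * a⁻¹ * b
  have hy : ∀ a, y a = a * (b⁻¹ * a * b)⁻¹ := by
    intro a
    show a * b⁻¹ * a⁻¹ * b = _
    group
  have hyT : ∀ a ∈ A, y a ∈ T := by
    intro a ha
    rw [hy]
    exact T.mul_mem ((le_sup_left : A ≤ T) ha) (T.inv_mem ((le_sup_right : Ab ≤ T) (hAbconj a ha)))
  have hyB : ∀ a ∈ A, y a ∈ B := by
    intro a ha
    show a * b⁻¹ * a⁻¹ * b ∈ B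
    exact B.mul_mem (hBn.conj_mem _ (B.inv_mem hb) a) hb
  have hset : {g : S | ∃ a ∈ A, g = a * b⁻¹ * a⁻¹ * b} = y '' (A : Set S) := by
    ext g
    constructor
    · rintro ⟨a, ha, rfl⟩
      exact ⟨a, ha, rfl⟩
    · rintro ⟨a, ha, rfl⟩
      exact ⟨a, ha, rfl⟩
  set X : Subgroup S := Subgroup.closure {g : S | ∃ a ∈ A, g = a * b⁻¹ * a⁻¹ * b} with hX
  have hymem : ∀ a ∈ A, y a ∈ X := fun a ha => Subgroup.subset_closure ⟨a, ha, rfl⟩
  have hXT : X ≤ T := by
    rw [hX, Subgroup.closure_le]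
    rintro _ ⟨a, ha, rfl⟩
    exact hyT a ha
  have hXB : X ≤ B := by
    rw [hX, Subgroup.closure_le]
    rintro _ ⟨a, ha, rfl⟩
    exact hyB a ha
  -- `[B,B] ≤ D`
  have hBBD : ⁅B, B⁆ ≤ D := by
    apply le_inf hBA
    intro x hx
    rw [hAbmem]
    exact hBA ((Subgroup.commutator_normal B B).conj_mem x hx b)
  have hABD : A ⊓ B ≤ D := by
    intro u hu
    refine ⟨hu.1, ?_⟩
    show u ∈ Ab
    rw [hAbmem]
    have h1 : cm b u ∈ A := hBA (Subgroup.commutator_mem_commutator hb hu.2)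
    have h2 : b * u * b⁻¹ = cm b u * u := by unfold cm; group
    rw [h2]
    exact A.mul_mem h1 hu.1
  have hABconj : ∀ u ∈ A ⊓ B, b⁻¹ * u * b ∈ A := by
    intro u hu
    have h1 : cm b⁻¹ u ∈ A := hBA (Subgroup.commutator_mem_commutator (B.inv_mem hb) hu.2)
    have h2 : b⁻¹ * u * b = cm b⁻¹ u * u := by unfold cm; group
    rw [h2]
    exact A.mul_mem h1 hu.1
  have hDb : ∀ d ∈ D, b⁻¹ * d * b ∈ D := by
    intro d hd
    refine ⟨?_, hAbconj d hd.1⟩
    have hv : b * d * b⁻¹ ∈ A := (hAbmem d).1 hd.2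
    have hu : b * d * b⁻¹ * d⁻¹ ∈ A ⊓ B := by
      refine ⟨A.mul_mem hv (A.inv_mem hd.1), ?_⟩
      have h3 : b * d * b⁻¹ * d⁻¹ = b * (d * b⁻¹ * d⁻¹) := by group
      rw [h3]
      exact B.mul_mem hb (hBn.conj_mem _ (B.inv_mem hb) d)
    have h4 := hABconj _ hu
    have h5 : b⁻¹ * d * b = (b⁻¹ * (b * d * b⁻¹ * d⁻¹) * b)⁻¹ * d := by group
    rw [h5]
    exact A.mul_mem (A.inv_mem h4) hd.1
  -- `X` abelian
  have hXc : ∀ u ∈ X, ∀ v ∈ X, u * v = v * u := by
    by_cases hp2 : p = 2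
    · intro u hu v hv
      have h1 := (hB2 hp2).is_comm.comm (⟨u, hXB hu⟩ : B) ⟨v, hXB hv⟩
      exact congrArg Subtype.val h1
    · have hhc : ⁅⁅B, B⁆, A⁆ = ⊥ := by
        apply le_bot_iff.1
        have h1 : ⁅A, A⁆ = ⊥ := by
          rw [Subgroup.commutator_eq_bot_iff_le_centralizer]
          intro x hx
          rw [Subgroup.mem_centralizer_iff]
          intro y hy
          exact hAc y hy x hx
        rw [← h1]
        exact Subgroup.commutator_mono hBA le_rfl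
      obtain ⟨-, h2⟩ := Cfsg.Agent.S0648.result A B (by
          intro a _
          rw [Subgroup.normalizer_eq_top]
          trivial) hhc
      have hX0 : Subgroup.closure {g : S | ∃ a ∈ A, g = b⁻¹ * a * b * a⁻¹} = X := by
        apply le_antisymm
        · rw [Subgroup.closure_le]
          rintro _ ⟨a, ha, rfl⟩
          have h3 : b⁻¹ * a * b * a⁻¹ = (y a)⁻¹ := by
            show _ = (a * b⁻¹ * a⁻¹ * b)⁻¹
            group
          rw [SetLike.mem_coe, h3]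
          exact X.inv_mem (hymem a ha)
        · rw [hX, Subgroup.closure_le]
          rintro _ ⟨a, ha, rfl⟩
          have h3 : a * b⁻¹ * a⁻¹ * b = (b⁻¹ * a * b * a⁻¹)⁻¹ := by group
          rw [SetLike.mem_coe, h3]
          exact Subgroup.inv_mem _ (Subgroup.subset_closure ⟨a, ha, rfl⟩)
      have h3 := h2 hA b hb
      rw [hX0] at h3
      have hXA : ⁅⁅X, A⁆, A⁆ = ⊥ := by
        apply le_bot_iff.1
        have h1 : ⁅A, A⁆ = ⊥ := by
          rw [Subgroup.commutator_eq_bot_iff_le_centralizer]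
          intro x hx
          rw [Subgroup.mem_centralizer_iff]
          intro y hy
          exact hAc y hy x hx
        rw [← h1]
        apply Subgroup.commutator_mono _ le_rfl
        rw [Subgroup.commutator_le]
        intro u hu a ha
        exact (hTcm u (hXT hu) a ((le_sup_left : A ≤ T) ha)).1
      have h4 := h3 hXA
      intro u hu v hv
      have h5 := h4 _ (Subgroup.commutator_mem_commutator hu hv)
      -- a `p`-element of square one is trivial
      obtain ⟨k, hk⟩ := hS ⁅u, v⁆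
      have h6 : orderOf ⁅u, v⁆ ∣ Nat.gcd 2 (p ^ k) :=
        Nat.dvd_gcd (orderOf_dvd_of_pow_eq_one h5) (orderOf_dvd_of_pow_eq_one hk)
      have h7 : Nat.gcd 2 (p ^ k) = 1 := by
        apply Nat.Coprime.pow_right
        exact (Nat.coprime_primes Nat.prime_two hp.out).2 (Ne.symm hp2)
      rw [h7] at h6
      have h8 : ⁅u, v⁆ = 1 := orderOf_eq_one_iff.1 (Nat.dvd_one.1 h6)
      have h9 : u * v * u⁻¹ * v⁻¹ = 1 := h8
      calc u * v = (u * v * u⁻¹ * v⁻¹) * (v * u) := by group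
        _ = v * u := by rw [h9, one_mul]
  have hDle : D ≤ Ast A b := le_sup_left
  have hXle : X ≤ Ast A b := le_sup_right
  have hAstT : Ast A b ≤ T := sup_le (inf_le_left.trans le_sup_left) hXT
  have hAstX : ∀ v ∈ Ast A b, ∀ x ∈ X, x * v = v * x := by
    intro v hv x hx
    have h1 : Ast A b ≤ Subgroup.centralizer ({x} : Set S) := by
      apply sup_le
      · intro d hd
        rw [Subgroup.mem_centralizer_iff]
        rintro _ rfl
        exact hTD _ (hXT hx) d hd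
      · intro u hu
        rw [Subgroup.mem_centralizer_iff]
        rintro _ rfl
        exact hXc _ hx _ hu
    exact Subgroup.mem_centralizer_iff.1 (h1 hv) x rfl
  have hAstc : ∀ u ∈ Ast A b, ∀ v ∈ Ast A b, u * v = v * u := by
    intro u hu v hv
    have h1 : Ast A b ≤ Subgroup.centralizer ({v} : Set S) := by
      apply sup_le
      · intro d hd
        rw [Subgroup.mem_centralizer_iff]
        rintro _ rfl
        exact hTD _ (hAstT hv) d hd
      · intro x hx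
        rw [Subgroup.mem_centralizer_iff]
        rintro _ rfl
        exact (hAstX _ hv x hx).symm
    exact (Subgroup.mem_centralizer_iff.1 (h1 hu) v rfl).symm
  have hy1 : y 1 = 1 := by
    show (1 : S) * b⁻¹ * 1⁻¹ * b = 1
    group
  have hyM : ∀ a₁ ∈ A, ∀ a₂ ∈ A, ∃ δ ∈ D, y (a₁ * a₂) = y a₁ * y a₂ * δ := by
    intro a₁ h₁ a₂ h₂
    refine ⟨cm (y a₂)⁻¹ (b⁻¹ * a₁ * b), hTcm _ (T.inv_mem (hyT a₂ h₂)) _
      ((le_sup_right : Ab ≤ T) (hAbconj a₁ h₁)), ?_⟩
    unfold cm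
    show (a₁ * a₂) * b⁻¹ * (a₁ * a₂)⁻¹ * b = (a₁ * b⁻¹ * a₁⁻¹ * b) * (a₂ * b⁻¹ * a₂⁻¹ * b) *
      ((a₂ * b⁻¹ * a₂⁻¹ * b)⁻¹ * (b⁻¹ * a₁ * b) * (a₂ * b⁻¹ * a₂⁻¹ * b)⁻¹⁻¹ * (b⁻¹ * a₁ * b)⁻¹)
    group
  have hyInv : ∀ a ∈ A, ∃ δ ∈ D, (y a)⁻¹ = y a⁻¹ * δ := by
    intro a ha
    obtain ⟨δ, hδ, e⟩ := hyM a ha a⁻¹ (A.inv_mem ha)
    rw [mul_inv_cancel, hy1] at e
    refine ⟨δ, hδ, ?_⟩
    have h1 : y a * (y a⁻¹ * δ) = 1 := by rw [← mul_assoc]; exact e.symm
    exact inv_eq_of_mul_eq_one_right h1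
  let W : Subgroup S :=
    { carrier := {s | ∃ a ∈ A, ∃ d ∈ D, s = y a * d}
      one_mem' := ⟨1, A.one_mem, 1, D.one_mem, by rw [hy1, one_mul]⟩
      mul_mem' := by
        rintro _ _ ⟨a₁, h₁, d₁, k₁, rfl⟩ ⟨a₂, h₂, d₂, k₂, rfl⟩
        obtain ⟨δ, hδ, e⟩ := hyM a₁ h₁ a₂ h₂
        refine ⟨a₁ * a₂, A.mul_mem h₁ h₂, δ⁻¹ * d₁ * d₂, D.mul_mem (D.mul_mem (D.inv_mem hδ) k₁) k₂, ?_⟩
        rw [e]
        have hc1 : d₁ * y a₂ = y a₂ * d₁ := (hTD _ (hyT a₂ h₂) d₁ k₁).symm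
        calc y a₁ * d₁ * (y a₂ * d₂) = y a₁ * (d₁ * y a₂) * d₂ := by group
          _ = y a₁ * (y a₂ * d₁) * d₂ := by rw [hc1]
          _ = y a₁ * y a₂ * δ * (δ⁻¹ * d₁ * d₂) := by group
      inv_mem' := by
        rintro _ ⟨a, ha, d, hd, rfl⟩
        obtain ⟨δ, hδ, e⟩ := hyInv a ha
        refine ⟨a⁻¹, A.inv_mem ha, d⁻¹ * δ, D.mul_mem (D.inv_mem hd) hδ, ?_⟩
        rw [mul_inv_rev, e]
        have hc1 : d⁻¹ * y a⁻¹ = y a⁻¹ * d⁻¹ :=
          (hTD _ (hyT a⁻¹ (A.inv_mem ha)) d⁻¹ (D.inv_mem hd)).symm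
        calc d⁻¹ * (y a⁻¹ * δ) = (d⁻¹ * y a⁻¹) * δ := by group
          _ = (y a⁻¹ * d⁻¹) * δ := by rw [hc1]
          _ = y a⁻¹ * (d⁻¹ * δ) := by group }
  have hW : ∀ s ∈ Ast A b, ∃ a ∈ A, ∃ d ∈ D, s = y a * d := by
    have hle : Ast A b ≤ W := by
      apply sup_le
      · intro d hd
        exact ⟨1, A.one_mem, d, hd, by rw [hy1, one_mul]⟩
      · rw [Subgroup.closure_le]
        rintro _ ⟨a, ha, rfl⟩
        exact ⟨a, ha, 1, D.one_mem, by rw [mul_one]⟩
    intro s hs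
    exact hle hs
  have hyD : ∀ a ∈ A, y a ∈ D ↔ a ∈ D := by
    intro a ha
    constructor
    · intro h
      refine ⟨ha, ?_⟩
      have h1 : a = y a * (b⁻¹ * a * b) := by rw [hy]; group
      show a ∈ Ab
      rw [h1]
      exact Ab.mul_mem h.2 (hAbconj a ha)
    · intro h
      rw [hy]
      have h1 := hDb a h
      exact D.mul_mem h (D.inv_mem h1)
  have hyAst : ∀ a ∈ A, y a ∈ Ast A b := fun a ha => hXle (hymem a ha)
  -- the individual claims
  have c2 : IsMulCommutative ↥(Ast A b) := by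
    constructor
    constructor
    rintro ⟨x, hx⟩ ⟨z, hz⟩
    exact Subtype.ext (hAstc x hx z hz)
  have c3 : ⁅B, B⁆ ≤ Ast A b := hBBD.trans hDle
  have c6 : T ≤ Subgroup.normalizer ((Ast A b : Subgroup S) : Set S) := by
    intro t ht
    apply mem_normalizer_of_conj
    intro k hk
    have h1 : t * k * t⁻¹ = cm t k * k := by unfold cm; group
    rw [h1]
    exact Subgroup.mul_mem _ (hDle (hTcm t ht k (hAstT hk))) hk
  have c7 : Ast A b ≤ Subgroup.normalizer (A : Set S) := hAstT.trans hTM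
  have c8 : b ∈ Subgroup.normalizer ((Ast A b : Subgroup S) : Set S) := by
    have h1 : b⁻¹ ∈ Subgroup.normalizer ((Ast A b : Subgroup S) : Set S) := by
      apply mem_normalizer_of_conj
      have hle : Ast A b ≤ (Ast A b).comap (MulAut.conj b⁻¹).toMonoidHom := by
        apply sup_le
        · intro d hd
          show b⁻¹ * d * b⁻¹⁻¹ ∈ Ast A b
          rw [inv_inv]
          exact hDle (hDb d hd)
        · rw [Subgroup.closure_le]
          rintro _ ⟨a, ha, rfl⟩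
          show b⁻¹ * (a * b⁻¹ * a⁻¹ * b) * b⁻¹⁻¹ ∈ Ast A b
          have hB1 : (y a)⁻¹ ∈ B := B.inv_mem (hyB a ha)
          have h2 : cm (y a)⁻¹ b⁻¹ ∈ Ast A b := c3 (Subgroup.commutator_mem_commutator hB1 (B.inv_mem hb))
          have h3 : b⁻¹ * (a * b⁻¹ * a⁻¹ * b) * b⁻¹⁻¹ = y a * cm (y a)⁻¹ b⁻¹ := by
            unfold cm
            show _ = (a * b⁻¹ * a⁻¹ * b) * ((a * b⁻¹ * a⁻¹ * b)⁻¹ * b⁻¹ * (a * b⁻¹ * a⁻¹ * b)⁻¹⁻¹ * b⁻¹⁻¹)
            group
          rw [h3]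
          exact Subgroup.mul_mem _ (hyAst a ha) h2
      intro k hk
      exact hle hk
    simpa using Subgroup.inv_mem _ h1
  have c9 : M ≤ Subgroup.normalizer ((Ast A b : Subgroup S) : Set S) := by
    intro g hg
    apply mem_normalizer_of_conj
    have hle : Ast A b ≤ (Ast A b).comap (MulAut.conj g).toMonoidHom := by
      apply sup_le
      · intro d hd
        exact hDle (hDM g hg d hd)
      · rw [Subgroup.closure_le]
        rintro _ ⟨a, ha, rfl⟩
        show g * (a * b⁻¹ * a⁻¹ * b) * g⁻¹ ∈ Ast A b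
        set a₁ := g * a * g⁻¹ with ha₁
        have ha₁A : a₁ ∈ A := hMA g hg a ha
        set m := b * g * b⁻¹ * g⁻¹ with hm
        have hmM : m ∈ M := M.mul_mem ((hbM g).1 hg) (M.inv_mem hg)
        have hmB : m ∈ B := by
          have h1 : m = b * (g * b⁻¹ * g⁻¹) := by rw [hm]; group
          rw [h1]
          exact B.mul_mem hb (hBn.conj_mem _ (B.inv_mem hb) g)
        have hu : cm a₁ m ∈ A ⊓ B := by
          constructor
          · have h1 : cm a₁ m = a₁ * (m * a₁⁻¹ * m⁻¹) := by unfold cm; group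
            rw [h1]
            exact A.mul_mem ha₁A (hMA m hmM _ (A.inv_mem ha₁A))
          · have h1 : cm a₁ m = (a₁ * m * a₁⁻¹) * m⁻¹ := by unfold cm; group
            show cm a₁ m ∈ B
            rw [h1]
            exact B.mul_mem (hBn.conj_mem _ hmB a₁) (B.inv_mem hmB)
        have h2 : g * (a * b⁻¹ * a⁻¹ * b) * g⁻¹ = y a₁ * (b⁻¹ * cm a₁ m * b) := by
          unfold cm
          show _ = (a₁ * b⁻¹ * a₁⁻¹ * b) * (b⁻¹ * (a₁ * m * a₁⁻¹ * m⁻¹) * b)
          rw [hm, ha₁]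
          group
        rw [h2]
        exact Subgroup.mul_mem _ (hyAst a₁ ha₁A) (hDle (hDb _ (hABD hu)))
    intro k hk
    exact hle hk
  -- moving element
  obtain ⟨a₀, ha₀, hmove⟩ : ∃ a ∈ A, b⁻¹ * a * b ∉ A := by
    by_contra hcon
    push Not at hcon
    apply hbA
    have h1 : b⁻¹ ∈ Subgroup.normalizer (A : Set S) := mem_normalizer_of_conj (by
      intro k hk
      simpa using hcon k hk)
    simpa using Subgroup.inv_mem _ h1
  have hy0 : y a₀ ∉ A := by
    intro h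
    apply hmove
    have h1 : b⁻¹ * a₀ * b = (y a₀)⁻¹ * a₀ := by rw [hy]; group
    rw [h1]
    exact A.mul_mem (A.inv_mem h) ha₀
  have c4 : A ⊓ B < Ast A b ⊓ B := by
    apply lt_of_le_of_ne
    · exact le_inf (hABD.trans hDle) inf_le_right
    · intro h
      have h1 : y a₀ ∈ Ast A b ⊓ B := ⟨hyAst a₀ ha₀, hyB a₀ ha₀⟩
      rw [← h] at h1
      exact hy0 h1.1
  have c5 : Ast A b ⊓ B < B := by
    apply lt_of_le_of_ne inf_le_right
    intro h
    apply hnot
    have h1 : B ≤ Ast A b := by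
      rw [← h]; exact inf_le_left
    exact h1.trans c7
  -- the exponent
  have c10 : p ≠ 2 → Monoid.exponent ↥(Ast A b) ∣ Monoid.exponent A := by
    intro hp2
    set e := Monoid.exponent A with he
    have hAe : ∀ x ∈ A, x ^ e = 1 := by
      intro x hx
      have := Monoid.pow_exponent_eq_one (⟨x, hx⟩ : A)
      exact congrArg Subtype.val this
    have heodd : Odd e := by
      have hApg : IsPGroup p A := IsPGroup.to_subgroup hS A
      obtain ⟨m, hm⟩ := IsPGroup.iff_card.1 hApg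
      have h1 : e ∣ p ^ m := by
        rw [← hm]
        exact Group.exponent_dvd_nat_card
      obtain ⟨j, -, hj⟩ := (Nat.dvd_prime_pow hp.out).1 h1
      rw [hj]
      exact (hp.out.odd_of_ne_two hp2).pow
    apply Monoid.exponent_dvd_of_forall_pow_eq_one
    rintro ⟨s, hs⟩
    apply Subtype.ext
    show s ^ e = 1
    obtain ⟨a, ha, d, hd, rfl⟩ := hW s hs
    have hcomm : Commute (y a) d := hTD _ (hyT a ha) d hd
    rw [hcomm.mul_pow, hAe d hd.1, mul_one, hy]
    set a' := (b⁻¹ * a * b)⁻¹ with ha'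
    have ha'T : a' ∈ T := T.inv_mem ((le_sup_right : Ab ≤ T) (hAbconj a ha))
    have haT : a ∈ T := (le_sup_left : A ≤ T) ha
    have hz : cm a' a ∈ D := hTcm a' ha'T a haT
    have h1 : a' * a = cm a' a * a * a' := by unfold cm; group
    have h2 := H25.mul_pow_of_central_comm h1 (hTD a haT _ hz).symm (hTD a' ha'T _ hz).symm e
    rw [h2, hAe a ha, one_mul]
    have h3 : a' ^ e = 1 := by
      rw [ha', inv_pow]
      have : (b⁻¹ * a * b) ^ e = b⁻¹ * a ^ e * b := by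
        have := conj_pow (a := b⁻¹) (b := a) (i := e)
        simpa using this
      rw [this, hAe a ha]
      group
    rw [h3, one_mul]
    obtain ⟨k, hk⟩ := heodd
    have h4 : e.choose 2 = e * k := by
      rw [Nat.choose_two_right, hk]
      have : (2 * k + 1) * (2 * k + 1 - 1) = (2 * k + 1) * k * 2 := by
        simp only [Nat.add_sub_cancel]
        ring
      rw [this, Nat.mul_div_cancel _ (by norm_num)]
    rw [h4, pow_mul, hAe _ hz.1, one_pow]
  -- cardinality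
  have c1 : Nat.card ↥(Ast A b) = Nat.card A := by
    let D' : Subgroup ↥(Ast A b) := D.subgroupOf (Ast A b)
    haveI : D'.Normal := ⟨fun n hn g => by
      have h1 : g * n * g⁻¹ = n := by
        apply Subtype.ext
        have := hAstc _ g.2 _ n.2
        show (g : S) * n * (g : S)⁻¹ = n
        rw [this]
        group
      rw [h1]
      exact hn⟩
    let Ψ : A →* ↥(Ast A b) ⧸ D' := MonoidHom.mk'
      (fun a => QuotientGroup.mk (⟨y a, hyAst a a.2⟩ : ↥(Ast A b))) (by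
        intro a₁ a₂
        rw [← QuotientGroup.mk_mul, QuotientGroup.eq, Subgroup.mem_subgroupOf]
        obtain ⟨δ, hδ, e⟩ := hyM a₁ a₁.2 a₂ a₂.2
        show (y ((a₁ : S) * a₂))⁻¹ * (y a₁ * y a₂) ∈ D
        rw [e]
        have : (y a₁ * y a₂ * δ)⁻¹ * (y a₁ * y a₂) = δ⁻¹ := by group
        rw [this]
        exact D.inv_mem hδ)
    have hΨ : ∀ a : A, Ψ a = QuotientGroup.mk (⟨y a, hyAst a a.2⟩ : ↥(Ast A b)) := fun _ => rfl
    have hsurj : Function.Surjective Ψ := by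
      intro q
      obtain ⟨⟨s, hs⟩, rfl⟩ := QuotientGroup.mk_surjective q
      obtain ⟨a, ha, d, hd, rfl⟩ := hW s hs
      refine ⟨⟨a, ha⟩, ?_⟩
      rw [hΨ, QuotientGroup.eq, Subgroup.mem_subgroupOf]
      show (y a)⁻¹ * (y a * d) ∈ D
      rw [inv_mul_cancel_left]
      exact hd
    have hker : Ψ.ker = D.subgroupOf A := by
      ext a
      rw [MonoidHom.mem_ker, hΨ, QuotientGroup.eq_one_iff, Subgroup.mem_subgroupOf, Subgroup.mem_subgroupOf]
      exact hyD a a.2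
    have h1 := Ψ.ker.card_mul_index
    rw [Subgroup.index_ker, MonoidHom.range_eq_top.2 hsurj, hker,
      Nat.card_congr (Subgroup.subgroupOfEquivOfLe (inf_le_left : D ≤ A)).toEquiv,
      Nat.card_congr Subgroup.topEquiv.toEquiv] at h1
    have h2 := D'.card_mul_index
    have h3 : Nat.card D' = Nat.card D :=
      Nat.card_congr (Subgroup.subgroupOfEquivOfLe hDle).toEquiv
    rw [h3] at h2
    have h4 : D'.index = Nat.card (↥(Ast A b) ⧸ D') := rfl
    rw [h4] at h2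
    rw [← h1, ← h2]
  refine ⟨c1, c2, c3, c4, c5, (le_sup_left.trans c6), c7, c8, ?_, c10⟩
  apply lt_of_le_of_ne c9
  intro h
  apply hbA
  have h5 : b ∈ M := by
    rw [h]
    exact c8
  exact h5

theorem replacement_family {p : ℕ} [hp : Fact p.Prime] (hS : IsPGroup p S) (hp2 : p ≠ 2) (D : Subgroup S) [hD : D.Normal]
    (B : Subgroup S) [hBn : B.Normal] (Fam : Set (Subgroup S)) (hab : ∀ A ∈ Fam, IsMulCommutative A) (hle : ∀ A ∈ Fam, A ≤ D)
    (hcl : ∀ A ∈ Fam, ∀ A' : Subgroup S, A' ≤ D → IsMulCommutative A' → Nat.card A' = Nat.card A →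
      Monoid.exponent A' ∣ Monoid.exponent A → A' ∈ Fam)
    (hU : ∃ U ∈ Fam, ⁅B, B⁆ ≤ U ∧ ¬ B ≤ U) : ∃ A ∈ Fam, ⁅B, B⁆ ≤ A ∧ ¬ B ≤ A ∧ B ≤ Subgroup.normalizer (A : Set S) := by
  classical
  let FF : Set (Subgroup S) := {U | U ∈ Fam ∧ ⁅B, B⁆ ≤ U ∧ ¬ B ≤ U}
  have hFF : FF.Nonempty := by
    obtain ⟨U, h1, h2, h3⟩ := hU
    exact ⟨U, h1, h2, h3⟩
  obtain ⟨A, hA, hmax⟩ := Set.exists_max_image FF (fun U => Nat.card ↥(U ⊓ B)) (Set.toFinite FF) hFF
  obtain ⟨hA1, hA2, hA3⟩ := hA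
  refine ⟨A, hA1, hA2, hA3, ?_⟩
  by_contra hnot
  set M := Subgroup.normalizer (A : Set S) with hM
  -- find `b`
  have hne : M ≠ B ⊔ M := by
    intro h
    apply hnot
    rw [h]
    exact le_sup_left
  obtain ⟨x, hx, hxM, hxN⟩ := Cfsg.Agent.S0663.norm_grow (IsPGroup.to_subgroup hS (B ⊔ M)) le_sup_right hne
  rw [Subgroup.mem_sup_of_normal_left] at hx
  obtain ⟨b, hb, m, hm, rfl⟩ := hx
  have hmN : m ∈ Subgroup.normalizer (M : Set S) := Subgroup.le_normalizer hm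
  have hbN : b ∈ Subgroup.normalizer (M : Set S) := by
    have := Subgroup.mul_mem _ hxN (Subgroup.inv_mem _ hmN)
    simpa using this
  have hbM : b ∉ M := by
    intro h
    exact hxM (M.mul_mem h hm)
  obtain ⟨c1, c2, c3, c4, c5, -, -, -, -, c10⟩ := repl hS B (fun h => absurd h hp2) A (hab A hA1) hA2 hnot b hb hbN hbM
  have hAstD : Ast A b ≤ D := by
    apply sup_le (inf_le_left.trans (hle A hA1))
    rw [Subgroup.closure_le]
    rintro _ ⟨a, ha, rfl⟩
    have h1 : a * b⁻¹ * a⁻¹ * b = a * (b⁻¹ * a⁻¹ * b) := by group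
    rw [SetLike.mem_coe, h1]
    have haD := hle A hA1 ha
    apply D.mul_mem haD
    have := hD.conj_mem a⁻¹ (D.inv_mem haD) b⁻¹
    simpa using this
  have hmem : Ast A b ∈ FF := by
    refine ⟨hcl A hA1 _ hAstD c2 c1 (c10 hp2), c3, ?_⟩
    intro h
    exact (lt_irrefl B) (lt_of_le_of_lt (le_inf h le_rfl) c5)
  have h1 := hmax _ hmem
  have h2 : A ⊓ B ≠ Ast A b ⊓ B := ne_of_lt c4
  have h3 : Nat.card ↥(Ast A b ⊓ B) ≤ Nat.card ↥(A ⊓ B) := h1
  exact h2 (Subgroup.eq_of_le_of_card_ge c4.le h3)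

end Cfsg.Agent.H03.GRepl
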