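import Mathlib
import Cfsg.Prelude.Def_PLocal
import Cfsg.Prelude.Def_OddOrderLocal
import Cfsg.Agent.Lib.H03.Thompson
import Cfsg.Agent.Lib.H01.Hall

set_option autoImplicit false

namespace Cfsg.Agent.H03

open Cfsg

section arith

variable {p : ℕ} [hp : Fact p.Prime]

/-- For odd `p` and `r ≡ 1 (mod p)`, the geometric sum `∑_{j<p} r^j` has exact `p`-adic valuation 1. -/
theorem geom_sum_eq (hp2 : p ≠ 2) (r : ℕ) (hr : (r : ZMod p) = 1) :
    ∃ k, ∑ j ∈ Finset.range p, r ^ j = p * (1 + p * k) := by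
  have hpp : p.Prime := hp.out
  have hr0 : 1 ≤ r := by
    rcases Nat.eq_zero_or_pos r with h | h
    · subst h
      simp at hr
    · exact h
  -- `r = 1 + p t`
  obtain ⟨t, ht⟩ : ∃ t, r = 1 + p * t := by
    have h1 : (r : ZMod p) = ((1 : ℕ) : ZMod p) := by simpa using hr
    have h2 := (ZMod.natCast_eq_natCast_iff' r 1 p).mp h1
    have h3 : r ≡ 1 [MOD p] := h2
    have h4 := (Nat.modEq_iff_dvd' hr0).mp h3.symm
    obtain ⟨t, ht⟩ := h4
    exact ⟨t, by omega⟩
  -- powers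
  have hpow : ∀ j : ℕ, ((p : ℤ) ^ 2) ∣ ((r ^ j : ℕ) : ℤ) - (1 + j * (p * t)) := by
    intro j
    induction j with
    | zero => simp
    | succ j ih =>
      obtain ⟨c, hc⟩ := ih
      refine ⟨c * r + j * t ^ 2, ?_⟩
      have h1 : ((r ^ j : ℕ) : ℤ) = 1 + j * (p * t) + p ^ 2 * c := by linarith
      have h2 : ((r ^ (j + 1) : ℕ) : ℤ) = ((r ^ j : ℕ) : ℤ) * r := by
        push_cast; ring
      rw [h2, h1]
      have h3 : (r : ℤ) = 1 + p * t := by rw [ht]; push_cast; ring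
      rw [h3]
      push_cast
      ring
  -- the sum
  have hsum : ∀ n : ℕ, (p ^ 2 : ℤ) ∣ ((∑ j ∈ Finset.range n, r ^ j : ℕ) : ℤ) -
      (n + (∑ j ∈ Finset.range n, (j : ℤ)) * (p * t)) := by
    intro n
    induction n with
    | zero => simp
    | succ n ih =>
      rw [Finset.sum_range_succ, Finset.sum_range_succ]
      have h1 := hpow n
      have h2 : ((∑ j ∈ Finset.range n, r ^ j + r ^ n : ℕ) : ℤ) - ((n + 1 : ℕ) + (∑ j ∈ Finset.range n, (j : ℤ) + n) * (p * t))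
          = (((∑ j ∈ Finset.range n, r ^ j : ℕ) : ℤ) - (n + (∑ j ∈ Finset.range n, (j : ℤ)) * (p * t)))
            + (((r ^ n : ℕ) : ℤ) - (1 + n * (p * t))) := by
        push_cast
        ring
      rw [h2]
      exact dvd_add ih h1
  have hgauss : (p : ℤ) ∣ ∑ j ∈ Finset.range p, (j : ℤ) := by
    have h1 : (∑ j ∈ Finset.range p, j) * 2 = p * (p - 1) := Finset.sum_range_id_mul_two p
    have h2 : p ∣ (∑ j ∈ Finset.range p, j) * 2 := ⟨_, h1⟩
    have h3 : Nat.Coprime p 2 := (Nat.coprime_primes hpp Nat.prime_two).mpr hp2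
    have h4 : p ∣ ∑ j ∈ Finset.range p, j := h3.dvd_of_dvd_mul_right h2
    have h5 : ((∑ j ∈ Finset.range p, j : ℕ) : ℤ) = ∑ j ∈ Finset.range p, (j : ℤ) := by
      push_cast; rfl
    rw [← h5]
    exact_mod_cast h4
  have hsum' : (p ^ 2 : ℤ) ∣ ((∑ j ∈ Finset.range p, r ^ j : ℕ) : ℤ) - p := by
    have h1 := hsum p
    obtain ⟨m, hm⟩ := hgauss
    have h2 : ((∑ j ∈ Finset.range p, r ^ j : ℕ) : ℤ) - p =
        (((∑ j ∈ Finset.range p, r ^ j : ℕ) : ℤ) - (p + (∑ j ∈ Finset.range p, (j : ℤ)) * (p * t)))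
          + (p ^ 2 : ℤ) * (m * t) := by
      rw [hm]
      ring
    rw [h2]
    exact dvd_add h1 (dvd_mul_right _ _)
  have hge : p ≤ ∑ j ∈ Finset.range p, r ^ j := by
    calc p = ∑ j ∈ Finset.range p, 1 := by simp
      _ ≤ ∑ j ∈ Finset.range p, r ^ j := by
        apply Finset.sum_le_sum
        intro j _
        exact Nat.one_le_pow _ _ hr0
  obtain ⟨c, hc⟩ := hsum'
  have hc0 : 0 ≤ c := by
    by_contra hneg
    push Not at hneg
    have h1 : ((∑ j ∈ Finset.range p, r ^ j : ℕ) : ℤ) - p ≥ 0 := by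
      have : (p : ℤ) ≤ ((∑ j ∈ Finset.range p, r ^ j : ℕ) : ℤ) := by exact_mod_cast hge
      linarith
    have h2 : (p ^ 2 : ℤ) > 0 := by
      have : (p : ℤ) > 0 := by exact_mod_cast hpp.pos
      positivity
    nlinarith
  refine ⟨c.toNat, ?_⟩
  have h3 : ((c.toNat : ℕ) : ℤ) = c := Int.toNat_of_nonneg hc0
  have h4 : ((∑ j ∈ Finset.range p, r ^ j : ℕ) : ℤ) = ((p * (1 + p * c.toNat) : ℕ) : ℤ) := by
    push_cast at hc ⊢
    rw [h3]
    linarith
  exact_mod_cast h4

end arith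

section group

variable {R : Type*} [Group R] {p : ℕ}

theorem conj_pow_eq {a x : R} {r : ℕ} (h : x * a * x⁻¹ = a ^ r) (i : ℕ) :
    x * a ^ i * x⁻¹ = a ^ (i * r) := by
  rw [← conj_pow, h, ← pow_mul, mul_comm]

/-- Power formula on the coset. -/
theorem mul_pow_formula {a x : R} {r : ℕ} (h : x * a * x⁻¹ = a ^ r) (i k : ℕ) :
    (a ^ i * x) ^ k = a ^ (i * ∑ j ∈ Finset.range k, r ^ j) * x ^ k := by
  induction k with
  | zero => simp
  | succ k ih =>
    rw [pow_succ', ih, Finset.sum_range_succ', pow_succ']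
    have h1 := conj_pow_eq h (i * ∑ j ∈ Finset.range k, r ^ j)
    have h2 : x * a ^ (i * ∑ j ∈ Finset.range k, r ^ j) = a ^ ((i * ∑ j ∈ Finset.range k, r ^ j) * r) * x := by
      rw [← h1]; group
    have e : i * (∑ j ∈ Finset.range k, r ^ (j + 1) + r ^ 0)
        = i + (i * ∑ j ∈ Finset.range k, r ^ j) * r := by
      have : ∑ j ∈ Finset.range k, r ^ (j + 1) = (∑ j ∈ Finset.range k, r ^ j) * r := by
        rw [Finset.sum_mul]
        apply Finset.sum_congr rfl
        intro j _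
        rw [pow_succ]
      rw [this]
      ring
    rw [e, pow_add]
    calc a ^ i * x * (a ^ (i * ∑ j ∈ Finset.range k, r ^ j) * x ^ k)
        = a ^ i * (x * a ^ (i * ∑ j ∈ Finset.range k, r ^ j)) * x ^ k := by group
      _ = a ^ i * (a ^ ((i * ∑ j ∈ Finset.range k, r ^ j) * r) * x) * x ^ k := by rw [h2]
      _ = a ^ i * a ^ ((i * ∑ j ∈ Finset.range k, r ^ j) * r) * (x * x ^ k) := by group

variable [Finite R] [hp : Fact p.Prime]

/-- `p`-elements act on a cyclic normal `p`-subgroup by powers congruent to 1 mod `p`. -/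
theorem exists_conj_eq_pow (hR : IsPGroup p R) {a : R} (hzp : ∀ g : R, g * a * g⁻¹ ∈ Subgroup.zpowers a)
    {e : ℕ} (he : e ≠ 0) (ha : orderOf a = p ^ e) (x : R) :
    ∃ r : ℕ, x * a * x⁻¹ = a ^ r ∧ (r : ZMod p) = 1 := by
  have h1 := hzp x
  rw [← mem_powers_iff_mem_zpowers] at h1
  obtain ⟨r, hr⟩ := h1
  refine ⟨r, hr.symm, ?_⟩
  have hm : ∀ m : ℕ, x ^ m * a * (x ^ m)⁻¹ = a ^ (r ^ m) := by
    intro m
    induction m with
    | zero => simp
    | succ m ih =>
      rw [pow_succ', pow_succ]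
      calc x * x ^ m * a * (x * x ^ m)⁻¹ = x * (x ^ m * a * (x ^ m)⁻¹) * x⁻¹ := by group
        _ = x * a ^ r ^ m * x⁻¹ := by rw [ih]
        _ = a ^ (r ^ m * r) := conj_pow_eq hr.symm _
  obtain ⟨k, hk⟩ := hR x
  have h2 := hm (p ^ k)
  rw [hk] at h2
  simp only [inv_one, mul_one, one_mul] at h2
  have h3 : a ^ 1 = a ^ (r ^ p ^ k) := by rw [pow_one]; exact h2
  rw [pow_eq_pow_iff_modEq, ha] at h3
  have h4 : 1 ≡ r ^ p ^ k [MOD p] := h3.of_dvd (dvd_pow_self p he)
  have h5 : ((1 : ℕ) : ZMod p) = ((r ^ p ^ k : ℕ) : ZMod p) := (ZMod.natCast_eq_natCast_iff _ _ _).mpr h4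
  push_cast at h5
  rw [ZMod.pow_card_pow] at h5
  exact h5.symm

/-- The main structure theorem for metacyclic `p`-groups. -/
theorem metacyclic_omega (hp2 : p ≠ 2) (hR : IsPGroup p R) (hm : IsMetacyclic R) (hnc : ¬ IsCyclic R) :
    ∃ z w : R, orderOf z = p ∧ orderOf w = p ∧ z ∉ Subgroup.zpowers w ∧ (∀ g : R, g * z = z * g) ∧
      ∀ x : R, x ^ p = 1 → x ∈ Subgroup.zpowers z ⊔ Subgroup.zpowers w := by
  classical
  have hpp : p.Prime := hp.out
  obtain ⟨N, hNn, hcyc, hq⟩ := hm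
  obtain ⟨⟨a, haN⟩, hgen⟩ := hcyc.exists_generator
  have hNa : N = Subgroup.zpowers a := by
    apply le_antisymm
    · intro x hx
      obtain ⟨k, hk⟩ := Subgroup.mem_zpowers_iff.mp (hgen ⟨x, hx⟩)
      refine Subgroup.mem_zpowers_iff.mpr ⟨k, ?_⟩
      exact congrArg Subtype.val hk
    · exact (Subgroup.zpowers_le).mpr haN
  have hzp : ∀ g : R, g * a * g⁻¹ ∈ Subgroup.zpowers a := by
    intro g
    rw [← hNa]
    exact hNn.conj_mem a haN g
  obtain ⟨e, he⟩ := IsPGroup.iff_orderOf.mp hR a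
  have he0 : e ≠ 0 := by
    rintro rfl
    rw [pow_zero, orderOf_eq_one_iff] at he
    apply hnc
    have hN1 : N = ⊥ := by
      rw [hNa, he, Subgroup.zpowers_one_eq_bot]
    have e1 : (R ⧸ N) ≃* R :=
      (QuotientGroup.quotientMulEquivOfEq hN1).trans QuotientGroup.quotientBot
    exact isCyclic_of_surjective e1.toMonoidHom e1.surjective
  set z := a ^ p ^ (e - 1) with hz
  have hzord : orderOf z = p := by
    rw [hz, orderOf_pow_of_dvd (pow_ne_zero _ hpp.ne_zero)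
      (by rw [he]; exact pow_dvd_pow _ (Nat.sub_le _ _)), he]
    have h1 : e = (e - 1) + 1 := by omega
    conv_lhs => rw [h1, pow_succ]
    exact Nat.mul_div_cancel_left _ (pow_pos hpp.pos _)
  have hzp1 : z ^ p = 1 := by rw [← hzord]; exact pow_orderOf_eq_one z
  have hself : ∀ (c : R) (r : ℕ), c ^ p = 1 → (r : ZMod p) = 1 → c ^ r = c := by
    intro c r hc hr
    have h1 : orderOf c ∣ p := orderOf_dvd_of_pow_eq_one hc
    have h2 : (r : ZMod p) = ((1 : ℕ) : ZMod p) := by simpa using hr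
    have h3 : r ≡ 1 [MOD p] := (ZMod.natCast_eq_natCast_iff _ _ _).mp h2
    have h4 : c ^ r = c ^ 1 := (pow_eq_pow_iff_modEq).mpr (h3.of_dvd h1)
    rwa [pow_one] at h4
  have hzcen : ∀ g : R, g * z = z * g := by
    intro g
    obtain ⟨r, hr, hrz⟩ := exists_conj_eq_pow hR hzp he0 he g
    have h1 : g * z * g⁻¹ = z ^ r := by
      rw [hz, conj_pow_eq hr, ← pow_mul]
    rw [hself z r hzp1 hrz] at h1
    calc g * z = (g * z * g⁻¹) * g := by group
      _ = z * g := by rw [h1]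
  -- the quotient
  obtain ⟨bb, hbb⟩ := hq.exists_generator
  obtain ⟨b, rfl⟩ := QuotientGroup.mk_surjective bb
  have hRq : IsPGroup p (R ⧸ N) := hR.to_quotient N
  obtain ⟨f, hf⟩ := IsPGroup.iff_orderOf.mp hRq (QuotientGroup.mk b)
  have hcycR : ∀ c : R, a ∈ Subgroup.zpowers c → (∀ x : R, ∃ n ∈ N, x * n⁻¹ ∈ Subgroup.zpowers c) → IsCyclic R := by
    intro c hc hx
    refine ⟨c, fun x => ?_⟩
    obtain ⟨n, hn, hxn⟩ := hx x
    have hnc' : n ∈ Subgroup.zpowers c := by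
      rw [hNa] at hn
      exact ((Subgroup.zpowers_le).mpr hc) hn
    change x ∈ Subgroup.zpowers c
    have h2 : x = (x * n⁻¹) * n := by group
    rw [h2]
    exact mul_mem hxn hnc'
  have hmkb : ∀ x : R, ∃ k : ℕ, (QuotientGroup.mk x : R ⧸ N) = (QuotientGroup.mk b) ^ k := by
    intro x
    have h1 := hbb (QuotientGroup.mk x)
    rw [← mem_powers_iff_mem_zpowers] at h1
    obtain ⟨k, hk⟩ := h1
    exact ⟨k, hk.symm⟩
  have hf0 : f ≠ 0 := by
    rintro rfl
    rw [pow_zero, orderOf_eq_one_iff] at hf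
    apply hnc
    apply hcycR a (Subgroup.mem_zpowers a)
    intro x
    obtain ⟨k, hk⟩ := hmkb x
    rw [hf, one_pow] at hk
    have hxN : x ∈ N := (QuotientGroup.eq_one_iff x).mp hk
    exact ⟨x, hxN, by simp⟩
  set y := b ^ p ^ (f - 1) with hy
  have hpf : p ^ (f - 1) * p = p ^ f := by
    rw [← pow_succ]
    congr 1
    omega
  have hmky : (QuotientGroup.mk y : R ⧸ N) = (QuotientGroup.mk b) ^ p ^ (f - 1) := rfl
  have hmky1 : (QuotientGroup.mk y : R ⧸ N) ≠ 1 := by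
    rw [hmky]
    intro h
    have h1 := orderOf_dvd_of_pow_eq_one h
    rw [hf] at h1
    have h2 := (Nat.pow_dvd_pow_iff_le_right hpp.one_lt).mp h1
    omega
  have hypN : y ^ p ∈ N := by
    rw [← QuotientGroup.eq_one_iff]
    change (QuotientGroup.mk (y ^ p) : R ⧸ N) = 1
    rw [QuotientGroup.mk_pow, hmky, ← pow_mul, hpf, ← hf, pow_orderOf_eq_one]
  have hypz : y ^ p ∈ Subgroup.zpowers a := by rw [← hNa]; exact hypN
  rw [← mem_powers_iff_mem_zpowers] at hypz
  obtain ⟨t, ht⟩ := hypz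
  replace ht : a ^ t = y ^ p := ht
  have hpt : p ∣ t := by
    by_contra hnd
    have hcop : t.Coprime (orderOf a) := by
      rw [he]
      exact Nat.Coprime.pow_right _ ((Nat.Prime.coprime_iff_not_dvd hpp).mpr hnd).symm
    obtain ⟨m, hm⟩ := exists_pow_eq_self_of_coprime hcop
    apply hnc
    apply hcycR b
    · rw [← hm, ht, hy, ← pow_mul, ← pow_mul]
      exact Subgroup.npow_mem_zpowers b _
    · intro x
      obtain ⟨k, hk⟩ := hmkb x
      refine ⟨(b ^ k)⁻¹ * x, ?_, ?_⟩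
      · rw [← QuotientGroup.eq_one_iff]
        change (QuotientGroup.mk ((b ^ k)⁻¹ * x) : R ⧸ N) = 1
        rw [QuotientGroup.mk_mul, QuotientGroup.mk_inv, QuotientGroup.mk_pow, hk, inv_mul_cancel]
      · have : x * ((b ^ k)⁻¹ * x)⁻¹ = b ^ k := by group
        rw [this]
        exact Subgroup.npow_mem_zpowers b k
  obtain ⟨t₁, rfl⟩ := hpt
  -- solve for `w`
  obtain ⟨r, hr, hrz⟩ := exists_conj_eq_pow hR hzp he0 he y
  obtain ⟨k, hk⟩ := geom_sum_eq hp2 r hrz
  set u := 1 + p * k with hu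
  have hucop : u.Coprime p := by
    rw [hu]
    simp
  have hucop' : u.Coprime (orderOf (a ^ p)) := by
    have h1 : orderOf (a ^ p) ∣ p ^ e := by
      rw [← he]
      exact orderOf_dvd_of_pow_eq_one (by rw [← pow_mul, mul_comm, pow_mul, pow_orderOf_eq_one, one_pow])
    obtain ⟨l, _, hl⟩ := (Nat.dvd_prime_pow hpp).mp h1
    rw [hl]
    exact Nat.Coprime.pow_right _ hucop
  obtain ⟨m, hm⟩ := exists_pow_eq_self_of_coprime hucop'
  set l := t₁ * (orderOf a - 1) with hl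
  have hlinv : (a ^ p) ^ l = (y ^ p)⁻¹ := by
    rw [← ht]
    apply eq_inv_of_mul_eq_one_left
    rw [← pow_mul, ← pow_add]
    have : p * l + p * t₁ = p * t₁ * orderOf a := by
      have h1 : 1 ≤ orderOf a := orderOf_pos a
      rw [hl]
      calc p * (t₁ * (orderOf a - 1)) + p * t₁ = p * t₁ * ((orderOf a - 1) + 1) := by ring
        _ = p * t₁ * orderOf a := by rw [Nat.sub_add_cancel h1]
    rw [this, mul_comm (p * t₁), pow_mul, pow_orderOf_eq_one, one_pow]
  set i := m * l with hi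
  set w := a ^ i * y with hw
  have hwp : w ^ p = 1 := by
    rw [hw, mul_pow_formula hr, hk]
    have h1 : a ^ (i * (p * u)) = (y ^ p)⁻¹ := by
      rw [← hlinv, hi]
      calc a ^ (m * l * (p * u)) = (((a ^ p) ^ u) ^ m) ^ l := by
            rw [← pow_mul, ← pow_mul, ← pow_mul]
            congr 1
            ring
        _ = (a ^ p) ^ l := by rw [hm]
    rw [h1, inv_mul_cancel]
  have hmkw : (QuotientGroup.mk w : R ⧸ N) = QuotientGroup.mk y := by
    rw [QuotientGroup.eq]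
    have h1 : w⁻¹ * y = (y⁻¹ * (a ^ i)⁻¹ * y) := by rw [hw]; group
    rw [h1]
    have h2 : a ^ i ∈ N := pow_mem haN i
    have h3 := hNn.conj_mem _ (inv_mem h2) y⁻¹
    simpa using h3
  have hwN : w ∉ N := by
    intro h
    apply hmky1
    rw [← hmkw]
    exact (QuotientGroup.eq_one_iff w).mpr h
  have hw1 : w ≠ 1 := by
    rintro h
    apply hwN
    rw [h]
    exact one_mem _
  haveI := hp
  have hword : orderOf w = p := orderOf_eq_prime hwp hw1
  have hzw : z ∉ Subgroup.zpowers w := by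
    intro h
    rw [← mem_powers_iff_mem_zpowers] at h
    obtain ⟨c, hc⟩ := h
    replace hc : w ^ c = z := hc
    have hnd : ¬ p ∣ c := by
      rintro ⟨c', rfl⟩
      have : z = 1 := by rw [← hc, pow_mul, hwp, one_pow]
      rw [this, orderOf_one] at hzord
      exact hpp.one_lt.ne hzord
    have hcop : c.Coprime (orderOf w) := by
      rw [hword]
      exact ((Nat.Prime.coprime_iff_not_dvd hpp).mpr hnd).symm
    obtain ⟨m', hm'⟩ := exists_pow_eq_self_of_coprime hcop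
    apply hwN
    rw [← hm', hc, hNa]
    have hzN : z ∈ Subgroup.zpowers a := Subgroup.npow_mem_zpowers a _
    exact pow_mem hzN m'
  refine ⟨z, w, hzord, hword, hzw, hzcen, ?_⟩
  intro x hx
  obtain ⟨c, hc⟩ := hmkb x
  have h1 : (QuotientGroup.mk b : R ⧸ N) ^ (c * p) = 1 := by
    rw [pow_mul, ← hc, ← QuotientGroup.mk_pow, hx]
    rfl
  have h2 := orderOf_dvd_of_pow_eq_one h1
  rw [hf, ← hpf, mul_comm c] at h2
  have h3 : p ^ (f - 1) ∣ c := by
    rw [mul_comm p c] at h2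
    exact Nat.dvd_of_mul_dvd_mul_right hpp.pos h2
  obtain ⟨l₁, rfl⟩ := h3
  set w₁ := w ^ l₁ with hw₁
  have hw₁p : w₁ ^ p = 1 := by
    rw [hw₁, ← pow_mul, mul_comm, pow_mul, hwp, one_pow]
  have hmk : (QuotientGroup.mk x : R ⧸ N) = QuotientGroup.mk w₁ := by
    rw [hc, pow_mul, ← hmky, ← hmkw, hw₁]
    rfl
  have hn : x * w₁⁻¹ ∈ N := by
    rw [← QuotientGroup.eq_one_iff]
    change (QuotientGroup.mk (x * w₁⁻¹) : R ⧸ N) = 1
    rw [QuotientGroup.mk_mul, QuotientGroup.mk_inv, hmk, mul_inv_cancel]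
  rw [hNa, ← mem_powers_iff_mem_zpowers] at hn
  obtain ⟨i₂, hi₂⟩ := hn
  replace hi₂ : a ^ i₂ = x * w₁⁻¹ := hi₂
  have hxe : x = a ^ i₂ * w₁ := by rw [hi₂]; group
  obtain ⟨r₁, hr₁, hr₁z⟩ := exists_conj_eq_pow hR hzp he0 he w₁
  obtain ⟨k₁, hk₁⟩ := geom_sum_eq hp2 r₁ hr₁z
  have h4 : a ^ (i₂ * (p * (1 + p * k₁))) = 1 := by
    have h5 := mul_pow_formula hr₁ i₂ p
    rw [← hxe, hx, hk₁, hw₁p, mul_one] at h5
    exact h5.symm
  have h5 := orderOf_dvd_of_pow_eq_one h4
  rw [he] at h5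
  have h6 : p ^ e = p ^ (e - 1) * p := by
    rw [← pow_succ]
    congr 1
    omega
  have h7 : p ^ (e - 1) ∣ i₂ := by
    rw [h6] at h5
    have h8 : p ^ (e - 1) * p ∣ (i₂ * (1 + p * k₁)) * p := by
      have : (i₂ * (1 + p * k₁)) * p = i₂ * (p * (1 + p * k₁)) := by ring
      rw [this]
      exact h5
    have h9 := Nat.dvd_of_mul_dvd_mul_right hpp.pos h8
    have h10 : (p ^ (e - 1)).Coprime (1 + p * k₁) := by
      apply Nat.Coprime.pow_left
      simp
    exact h10.dvd_of_dvd_mul_right h9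
  obtain ⟨i₃, rfl⟩ := h7
  rw [hxe, pow_mul, ← hz, hw₁]
  exact mul_mem ((le_sup_left : Subgroup.zpowers z ≤ _) (Subgroup.npow_mem_zpowers z i₃))
    ((le_sup_right : Subgroup.zpowers w ≤ _) (Subgroup.npow_mem_zpowers w l₁))

/-- `Ω₁` of a non-cyclic metacyclic `p`-group, `p` odd. -/
theorem metacyclic_omegaOne (hp2 : p ≠ 2) (hR : IsPGroup p R) (hm : IsMetacyclic R) (hnc : ¬ IsCyclic R) :
    IsElementaryAbelian p (omegaOne p (⊤ : Subgroup R)) ∧ Nat.card ↥(omegaOne p (⊤ : Subgroup R)) = p ^ 2 := by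
  classical
  obtain ⟨z, w, hz, hw, hzw, hcen, hx⟩ := metacyclic_omega hp2 hR hm hnc
  have hzp : z ^ p = 1 := by rw [← hz]; exact pow_orderOf_eq_one z
  have hwp : w ^ p = 1 := by rw [← hw]; exact pow_orderOf_eq_one w
  have hΩ : omegaOne p (⊤ : Subgroup R) = Subgroup.zpowers w ⊔ Subgroup.zpowers z := by
    apply le_antisymm
    · rw [omegaOne, Subgroup.closure_le]
      rintro x ⟨_, hxp⟩
      rw [sup_comm]
      exact hx x hxp
    · refine sup_le ?_ ?_
      · exact (Subgroup.zpowers_le).mpr (mem_omegaOne_of_mem trivial hwp)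
      · exact (Subgroup.zpowers_le).mpr (mem_omegaOne_of_mem trivial hzp)
  have hzcw : ∀ a ∈ Subgroup.zpowers w, ∀ b ∈ Subgroup.zpowers z, a * b = b * a := by
    intro a ha b hb
    obtain ⟨k, rfl⟩ := Subgroup.mem_zpowers_iff.mp ha
    obtain ⟨l, rfl⟩ := Subgroup.mem_zpowers_iff.mp hb
    exact ((show Commute w z from (hcen w)).zpow_zpow k l)
  have hEA := isElementaryAbelian_sup (isElementaryAbelian_zpowers hwp) (isElementaryAbelian_zpowers hzp) hzcw
  rw [hΩ]
  refine ⟨hEA, ?_⟩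
  have hzn : (Subgroup.zpowers z).Normal := by
    constructor
    intro x hx' g
    obtain ⟨k, rfl⟩ := Subgroup.mem_zpowers_iff.mp hx'
    have h1 : Commute g (z ^ k) := ((show Commute g z from hcen g).zpow_right k)
    rw [h1.eq]
    simpa using Subgroup.zpow_mem_zpowers z k
  have hcard := Cfsg.Agent.H01.card_sup_mul_card_inf (Subgroup.zpowers w) (Subgroup.zpowers z)
  have hinf : Subgroup.zpowers w ⊓ Subgroup.zpowers z = ⊥ := by
    have hpp : p.Prime := hp.out
    have hc1 : Nat.card (Subgroup.zpowers w) = p := by rw [Nat.card_zpowers, hw]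
    have hd : Nat.card ↥(Subgroup.zpowers w ⊓ Subgroup.zpowers z) ∣ p := by
      rw [← hc1]
      exact Subgroup.card_dvd_of_le inf_le_left
    rcases (Nat.dvd_prime hpp).mp hd with h | h
    · exact Subgroup.eq_bot_of_card_eq _ h
    · exfalso
      apply hzw
      have hle : Subgroup.zpowers w ⊓ Subgroup.zpowers z = Subgroup.zpowers w :=
        Subgroup.eq_of_le_of_card_ge inf_le_left (by rw [h, hc1])
      have h2 : Subgroup.zpowers w ≤ Subgroup.zpowers z := by
        rw [← hle]; exact inf_le_right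
      have hc2 : Nat.card (Subgroup.zpowers z) = p := by rw [Nat.card_zpowers, hz]
      have h3 : Subgroup.zpowers w = Subgroup.zpowers z :=
        Subgroup.eq_of_le_of_card_ge h2 (by rw [hc1, hc2])
      rw [h3]
      exact Subgroup.mem_zpowers z
  rw [hinf, Subgroup.card_bot, mul_one, Nat.card_zpowers, Nat.card_zpowers, hw, hz] at hcard
  rw [hcard, sq]

end group

end Cfsg.Agent.H03
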