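import Mathlib

set_option autoImplicit false

namespace Cfsg.Agent.H03

open MulAction

variable {G α : Type*} [Group G] [MulAction G α]

/-- If a set invariant under a group is a union of orbits whose sizes are all divisible by `d`, then
so is its size. -/
theorem dvd_ncard_of_invariant [Finite α] (X : Set α) (hX : ∀ g : G, ∀ x ∈ X, g • x ∈ X) (d : ℕ)
    (h : ∀ x ∈ X, d ∣ (orbit G x).ncard) : d ∣ X.ncard := by
  classical
  induction hn : X.ncard using Nat.strong_induction_on generalizing X with
  | _ n ih =>
    by_cases hne : X.Nonempty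
    · obtain ⟨x, hx⟩ := hne
      have hsub : orbit G x ⊆ X := by
        rintro _ ⟨g, rfl⟩
        exact hX g x hx
      have hcard : (X \ orbit G x).ncard + (orbit G x).ncard = X.ncard :=
        Set.ncard_sdiff_add_ncard_of_subset hsub (Set.toFinite _)
      have hpos : 0 < (orbit G x).ncard := by
        rw [Set.ncard_pos (Set.toFinite _)]
        exact ⟨x, mem_orbit_self x⟩
      have hlt : (X \ orbit G x).ncard < n := by omega
      have hinv : ∀ g : G, ∀ y ∈ X \ orbit G x, g • y ∈ X \ orbit G x := by
        rintro g y ⟨hy1, hy2⟩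
        refine ⟨hX g y hy1, ?_⟩
        intro hy3
        apply hy2
        have h1 : orbit G (g • y) = orbit G x := orbit_eq_iff.mpr hy3
        rw [orbit_smul] at h1
        exact orbit_eq_iff.mp h1
      have h2 := ih _ hlt (X \ orbit G x) hinv (fun y hy => h y hy.1) rfl
      rw [← hn, ← hcard]
      exact dvd_add h2 (h x hx)
    · rw [Set.not_nonempty_iff_eq_empty] at hne
      subst hne
      simp at hn
      simp [← hn]

/-- A Sylow subgroup of a group transitive on a set of `p`-power size is still transitive. -/
theorem isPretransitive_sylow {p : ℕ} [hp : Fact p.Prime] [Finite G] [Finite α] [IsPretransitive G α]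
    (f : ℕ) (hcard : Nat.card α = p ^ f) (P : Sylow p G) : IsPretransitive P α := by
  classical
  have : Fintype G := Fintype.ofFinite G
  have : Fintype α := Fintype.ofFinite α
  obtain ⟨a⟩ : Nonempty α := by
    have : Nat.card α ≠ 0 := by rw [hcard]; exact pow_ne_zero _ hp.out.ne_zero
    exact (Nat.card_ne_zero.mp this).1
  rw [isPretransitive_iff_orbit_eq_univ (a := a)]
  -- numerics
  have h1 : Nat.card (orbit (P : Subgroup G) a) * Nat.card (stabilizer (P : Subgroup G) a) = Nat.card P := by
    have := card_orbit_mul_card_stabilizer_eq_card_group (P : Subgroup G) a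
    simpa [Nat.card_eq_fintype_card] using this
  have h2 : Nat.card (orbit G a) * Nat.card (stabilizer G a) = Nat.card G := by
    have := card_orbit_mul_card_stabilizer_eq_card_group G a
    simpa [Nat.card_eq_fintype_card] using this
  rw [orbit_eq_univ, Nat.card_univ, hcard] at h2
  -- `stabilizer P a` embeds in `stabilizer G a`
  have h3 : Nat.card (stabilizer (P : Subgroup G) a) ∣ Nat.card (stabilizer G a) := by
    let φ : stabilizer (P : Subgroup G) a →* stabilizer G a :=
      { toFun := fun x => ⟨(x.1 : G), x.2⟩
        map_one' := rfl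
        map_mul' := fun _ _ => rfl }
    have hφ : Function.Injective φ := by
      intro x y h
      apply Subtype.ext
      apply Subtype.ext
      exact congrArg (fun z : stabilizer G a => (z : G)) h
    exact Subgroup.card_dvd_of_injective φ hφ
  obtain ⟨t, ht⟩ := h3
  have h4 : Nat.card G = Nat.card P * (P : Subgroup G).index := (Subgroup.card_mul_index _).symm
  have h5 := P.not_dvd_index
  set o := Nat.card (orbit (P : Subgroup G) a) with ho
  set B := Nat.card (stabilizer (P : Subgroup G) a) with hB
  set m := (P : Subgroup G).index with hm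
  have hBpos : 0 < B := Nat.card_pos
  have h6 : p ^ f * t = o * m := by
    have h7 : p ^ f * (B * t) = o * B * m := by
      rw [← ht, h2, h4, ← h1]
    have h8 : B * (p ^ f * t) = B * (o * m) := by linarith [h7]
    exact Nat.eq_of_mul_eq_mul_left hBpos h8
  have hcop : Nat.Coprime (p ^ f) m :=
    Nat.Coprime.pow_left f ((Nat.Prime.coprime_iff_not_dvd hp.out).mpr h5)
  have h9 : p ^ f ∣ o := hcop.dvd_of_dvd_mul_right (Dvd.intro t h6)
  have hopos : 0 < o := by
    have : Nonempty (orbit (P : Subgroup G) a) := ⟨⟨a, mem_orbit_self a⟩⟩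
    exact Nat.card_pos
  have h10 : p ^ f ≤ o := Nat.le_of_dvd hopos h9
  have h11 : o ≤ Nat.card α := by
    rw [ho, Nat.card_coe_set_eq, ← Set.ncard_univ]
    exact Set.ncard_le_ncard (Set.subset_univ _)
  rw [hcard] at h11
  have h12 : o = Nat.card α := by rw [hcard]; omega
  rw [ho, Nat.card_coe_set_eq] at h12
  exact Set.eq_of_subset_of_ncard_le (Set.subset_univ _) (by rw [Set.ncard_univ, h12])

/-- A finite `p`-group acting linearly on a nonzero `p`-torsion module has a nonzero fixed vector
in the subgroup generated by any given orbit. -/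
theorem exists_fixed_of_pgroup {P M : Type*} [Group P] [Finite P] [AddCommGroup M] [DistribMulAction P M]
    {p : ℕ} [hp : Fact p.Prime] (hP : IsPGroup p P) (hM : ∀ m : M, p • m = 0) (v : M) (hv : v ≠ 0) :
    ∃ u ∈ AddSubgroup.closure (Set.range fun g : P => g • v), u ≠ 0 ∧ ∀ g : P, g • u = u := by
  classical
  set A := AddSubgroup.closure (Set.range fun g : P => g • v) with hA
  have hinv : ∀ g : P, ∀ x ∈ A, g • x ∈ A := by
    intro g x hx
    induction hx using AddSubgroup.closure_induction with
    | mem x hx =>
      obtain ⟨k, rfl⟩ := hx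
      apply AddSubgroup.subset_closure
      exact ⟨g * k, mul_smul _ _ _⟩
    | zero => simp
    | add x y _ _ h1 h2 =>
      rw [smul_add]
      exact A.add_mem h1 h2
    | neg x _ h1 =>
      rw [smul_neg]
      exact A.neg_mem h1
  let _ : MulAction P A :=
    { smul := fun g x => ⟨g • x.1, hinv g x.1 x.2⟩
      one_smul := fun x => Subtype.ext (one_smul P x.1)
      mul_smul := fun g h x => Subtype.ext (mul_smul g h x.1) }
  have hsm : ∀ (g : P) (x : A), ((g • x : A) : M) = g • (x : M) := fun _ _ => rfl
  have hfin : Finite A := by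
    have : Finite (Set.range fun g : P => g • v) := Set.finite_range _ |>.to_subtype
    have hfg : AddGroup.FG A := AddGroup.closure_finite_fg _
    refine AddCommGroup.finite_of_fg_isAddTorsion A ?_
    intro x
    exact isOfFinAddOrder_iff_nsmul_eq_zero.mpr ⟨p, hp.out.pos, Subtype.ext (by simpa using hM x.1)⟩
  have hvA : v ∈ A := AddSubgroup.subset_closure ⟨1, one_smul _ _⟩
  have hord : addOrderOf (⟨v, hvA⟩ : A) = p := by
    apply addOrderOf_eq_prime
    · exact Subtype.ext (by simpa using hM v)
    · intro h
      exact hv (congrArg Subtype.val h)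
  have hdvd : p ∣ Nat.card A := by
    rw [← hord]
    exact addOrderOf_dvd_natCard _
  have h0 : (0 : A) ∈ fixedPoints P A := by
    intro g
    apply Subtype.ext
    rw [hsm]
    simp
  obtain ⟨b, hb, hb0⟩ := hP.exists_fixed_point_of_prime_dvd_card_of_fixed_point A hdvd h0
  refine ⟨b.1, b.2, ?_, ?_⟩
  · intro h
    exact hb0 (Subtype.ext h.symm)
  · intro g
    have := hb g
    exact congrArg Subtype.val this

/-- The stabilizer of a point in a pointwise stabilizer is the pointwise stabilizer of the larger set. -/
theorem card_stabilizer_fixing (u : Set α) (x : α) :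
    Nat.card (stabilizer (fixingSubgroup G u) x) = Nat.card (fixingSubgroup G (insert x u)) := by
  refine Nat.card_congr
    { toFun := fun g => ⟨(g.1 : G), ?_⟩
      invFun := fun g => ⟨⟨(g : G), ?_⟩, ?_⟩
      left_inv := fun g => rfl
      right_inv := fun g => rfl }
  · rw [mem_fixingSubgroup_iff]
    intro y hy
    rcases hy with rfl | hy
    · exact g.2
    · exact (mem_fixingSubgroup_iff G).mp g.1.2 y hy
  · rw [mem_fixingSubgroup_iff]
    intro y hy
    exact (mem_fixingSubgroup_iff G).mp g.2 y (Set.mem_insert_of_mem _ hy)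
  · exact (mem_fixingSubgroup_iff G).mp g.2 x (Set.mem_insert _ _)

end Cfsg.Agent.H03
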