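import Mathlib
import Cfsg.Agent.Lib.H17.Mob3

/-! Recognition of `PGL₂` and `PSL₂` as permutation groups of the projective line. -/

set_option autoImplicit false

namespace Cfsg.Agent.H03.PR

open OnePoint Matrix Cfsg.Agent.H17.Mob
open scoped MatrixGroups

/-- two permutation groups with the same stabiliser of a point and a common transitive subset -/
lemma eq_of_stab {Y : Type*} (G R : Subgroup (Equiv.Perm Y)) (y : Y)
    (hs : ∀ g : Equiv.Perm Y, g y = y → (g ∈ G ↔ g ∈ R))
    (ht : ∀ z : Y, ∃ w ∈ G, w ∈ R ∧ w z = y) : G = R := by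
  ext g
  obtain ⟨w, hwG, hwR, hw⟩ := ht (g y)
  have h1 : (w * g) y = y := hw
  constructor
  · intro hg
    have h2 := (hs _ h1).1 (mul_mem hwG hg)
    have h3 := mul_mem (inv_mem hwR) h2
    simpa using h3
  · intro hg
    have h2 := (hs _ h1).2 (mul_mem hwR hg)
    have h3 := mul_mem (inv_mem hwG) h2
    simpa using h3

variable {K : Type*} [Field K] [DecidableEq K]

/-- two permutations of the line agreeing on `∞` and the affine points are equal -/
lemma perm_ext {g g' : Equiv.Perm (OnePoint K)} (h1 : g ∞ = g' ∞)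
    (h2 : ∀ x : K, g (x : OnePoint K) = g' (x : OnePoint K)) : g = g' := by
  ext z
  induction z using OnePoint.rec with
  | infty => exact h1
  | coe x => exact h2 x

/-- the upper triangular element of `GL₂` -/
noncomputable def glUp (a b : K) (ha : a ≠ 0) : GL (Fin 2) K :=
  Matrix.GeneralLinearGroup.mkOfDetNeZero !![a, b; 0, 1] (by simpa [det_fin_two] using ha)

lemma glPerm_up_infty (a b : K) (ha : a ≠ 0) : glPerm K (glUp a b ha) ∞ = ∞ := by
  rw [glPerm_infty]
  simp [glUp, Matrix.GeneralLinearGroup.mkOfDetNeZero]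

lemma glPerm_up_coe (a b : K) (ha : a ≠ 0) (x : K) :
    glPerm K (glUp a b ha) (x : OnePoint K) = ((a * x + b : K) : OnePoint K) := by
  rw [glPerm_coe]
  simp [glUp, Matrix.GeneralLinearGroup.mkOfDetNeZero]

/-- the inversion -/
noncomputable def glInv : GL (Fin 2) K :=
  Matrix.GeneralLinearGroup.mkOfDetNeZero !![0, 1; 1, 0] (by simp [det_fin_two])

lemma glPerm_inv_infty : glPerm K (glInv) ∞ = ((0 : K) : OnePoint K) := by
  rw [glPerm_infty]
  simp [glInv, Matrix.GeneralLinearGroup.mkOfDetNeZero]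

lemma glPerm_inv_zero : glPerm K (glInv) ((0 : K) : OnePoint K) = ∞ := by
  rw [glPerm_coe]
  simp [glInv, Matrix.GeneralLinearGroup.mkOfDetNeZero]

lemma glPerm_inv_coe (x : K) (hx : x ≠ 0) : glPerm K (glInv) (x : OnePoint K) = ((x⁻¹ : K) : OnePoint K) := by
  rw [glPerm_coe]
  simp [glInv, Matrix.GeneralLinearGroup.mkOfDetNeZero, hx]

/-- Recognition of `PGL₂`. -/
theorem pgl_of (G : Subgroup (Equiv.Perm (OnePoint K)))
    (hG : ∀ g : Equiv.Perm (OnePoint K), g ∞ = ∞ → (g ∈ G ↔ ∃ a b : K, a ≠ 0 ∧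
      ∀ x : K, g (x : OnePoint K) = ((a * x + b : K) : OnePoint K)))
    (t : Equiv.Perm (OnePoint K)) (htG : t ∈ G) (ht1 : t ∞ = ((0 : K) : OnePoint K))
    (ht2 : t ((0 : K) : OnePoint K) = ∞)
    (ht3 : ∀ x : K, x ≠ 0 → t (x : OnePoint K) = ((x⁻¹ : K) : OnePoint K)) :
    Nonempty (G ≃* Matrix.ProjGenLinGroup (Fin 2) K) := by
  have htR : t = glPerm K glInv := by
    apply perm_ext
    · rw [ht1, glPerm_inv_infty]
    · intro x
      by_cases hx : x = 0
      · subst hx
        rw [ht2, glPerm_inv_zero]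
      · rw [ht3 x hx, glPerm_inv_coe x hx]
  have huG : ∀ (a b : K) (ha : a ≠ 0), glPerm K (glUp a b ha) ∈ G := by
    intro a b ha
    exact (hG _ (glPerm_up_infty a b ha)).2 ⟨a, b, ha, glPerm_up_coe a b ha⟩
  have hGR : G = (glPerm K).range := by
    apply eq_of_stab G _ ∞
    · intro g hg
      rw [hG g hg]
      constructor
      · rintro ⟨a, b, ha, h⟩
        refine ⟨glUp a b ha, ?_⟩
        apply perm_ext
        · rw [hg, glPerm_up_infty]
        · intro x
          rw [h x, glPerm_up_coe]
      · rintro ⟨A, rfl⟩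
        rw [glPerm_infty] at hg
        have hc : A.1 1 0 = 0 := by
          by_contra hcon
          rw [if_neg hcon] at hg
          exact OnePoint.coe_ne_infty _ hg
        have hdet : A.1 0 0 * A.1 1 1 ≠ 0 := by
          have h1 : IsUnit (A.1).det := (Matrix.isUnit_iff_isUnit_det _).1 A.isUnit
          rw [det_fin_two, hc, mul_zero, sub_zero] at h1
          exact h1.ne_zero
        have hd : A.1 1 1 ≠ 0 := right_ne_zero_of_mul hdet
        have ha : A.1 0 0 ≠ 0 := left_ne_zero_of_mul hdet
        refine ⟨A.1 0 0 / A.1 1 1, A.1 0 1 / A.1 1 1, div_ne_zero ha hd, ?_⟩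
        intro x
        rw [glPerm_coe]
        simp only [hc, zero_mul, zero_add]
        rw [if_neg hd]
        congr 1
        field_simp
    · intro z
      induction z using OnePoint.rec with
      | infty => exact ⟨1, one_mem _, one_mem _, rfl⟩
      | coe x =>
        refine ⟨t * glPerm K (glUp 1 (-x) one_ne_zero), mul_mem htG (huG _ _ _), ?_, ?_⟩
        · rw [htR]
          exact ⟨glInv * glUp 1 (-x) one_ne_zero, map_mul _ _ _⟩
        · rw [Equiv.Perm.mul_apply, glPerm_up_coe]
          simp [ht2]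
  refine ⟨(MulEquiv.subgroupCongr hGR).trans ?_⟩
  exact (QuotientGroup.quotientKerEquivRange (glPerm K)).symm.trans
    (QuotientGroup.quotientMulEquivOfEq glPerm_ker)

/-- Recognition of `PSL₂`. -/
theorem psl_of (G : Subgroup (Equiv.Perm (OnePoint K)))
    (hG : ∀ g : Equiv.Perm (OnePoint K), g ∞ = ∞ → (g ∈ G ↔ ∃ a b : K, a ≠ 0 ∧
      ∀ x : K, g (x : OnePoint K) = ((a ^ 2 * x + b : K) : OnePoint K)))
    (t : Equiv.Perm (OnePoint K)) (htG : t ∈ G) (ht1 : t ∞ = ((0 : K) : OnePoint K))
    (ht2 : t ((0 : K) : OnePoint K) = ∞)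
    (ht3 : ∀ x : K, x ≠ 0 → t (x : OnePoint K) = ((-x⁻¹ : K) : OnePoint K)) :
    Nonempty (G ≃* Matrix.ProjectiveSpecialLinearGroup (Fin 2) K) := by
  have htR : t = slPerm K (slAnti (-1) (by simp)) := by
    apply perm_ext
    · rw [ht1, slPerm_infty]
      simp [slAnti]
    · intro x
      by_cases hx : x = 0
      · subst hx
        rw [ht2, slPerm_coe]
        simp [slAnti]
      · rw [ht3 x hx, slPerm_coe]
        simp [slAnti, hx]
        field_simp
  have huG : ∀ (a β : K) (ha : a ≠ 0), slPerm K (slUp a (β / a) ha) ∈ G := by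
    intro a β ha
    exact (hG _ (slPerm_up a β ha)).2 ⟨a, β, ha, fun k => slPerm_up_coe a β k ha⟩
  have hGR : G = (slPerm K).range := by
    apply eq_of_stab G _ ∞
    · intro g hg
      rw [hG g hg]
      constructor
      · rintro ⟨a, b, ha, h⟩
        refine ⟨slUp a (b / a) ha, ?_⟩
        apply perm_ext
        · rw [hg, slPerm_up]
        · intro x
          rw [h x, slPerm_up_coe]
      · rintro ⟨A, rfl⟩
        rw [slPerm_infty] at hg
        have hc : A.1 1 0 = 0 := by
          by_contra hcon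
          rw [if_neg hcon] at hg
          exact OnePoint.coe_ne_infty _ hg
        have hdet : A.1 0 0 * A.1 1 1 = 1 := by
          have h1 := A.2
          rw [det_fin_two, hc, mul_zero, sub_zero] at h1
          exact h1
        have hd : A.1 1 1 ≠ 0 := right_ne_zero_of_mul (by rw [hdet]; exact one_ne_zero)
        have ha : A.1 0 0 ≠ 0 := left_ne_zero_of_mul (by rw [hdet]; exact one_ne_zero)
        refine ⟨A.1 0 0, A.1 0 0 * A.1 0 1, ha, ?_⟩
        intro x
        rw [slPerm_coe]
        simp only [hc, zero_mul, zero_add]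
        rw [if_neg hd]
        congr 1
        have h5 : A.1 1 1 = (A.1 0 0)⁻¹ := eq_inv_of_mul_eq_one_right hdet
        rw [h5]
        field_simp
    · intro z
      induction z using OnePoint.rec with
      | infty => exact ⟨1, one_mem _, one_mem _, rfl⟩
      | coe x =>
        refine ⟨t * slPerm K (slUp 1 (-x / 1) one_ne_zero), mul_mem htG (huG _ _ _), ?_, ?_⟩
        · rw [htR]
          exact ⟨slAnti (-1) (by simp) * slUp 1 (-x / 1) one_ne_zero, map_mul _ _ _⟩
        · rw [Equiv.Perm.mul_apply, slPerm_up_coe]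
          simp [ht2]
  refine ⟨(MulEquiv.subgroupCongr hGR).trans ?_⟩
  exact (QuotientGroup.quotientKerEquivRange (slPerm K)).symm.trans
    (QuotientGroup.quotientMulEquivOfEq slPerm_ker)

end Cfsg.Agent.H03.PR
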