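import Mathlib

set_option autoImplicit false

namespace Cfsg.Agent.H03

/-- If all conjugates of `x` lie in the finset `D` then `|G| ≤ |D| |C(x)|`. -/
theorem card_le_mul_card_centralizer {G : Type*} [Group G] [Finite G] (x : G) (D : Finset G)
    (hD : ∀ g : G, g * x * g⁻¹ ∈ D) :
    Nat.card G ≤ D.card * Nat.card (Subgroup.centralizer ({x} : Set G)) := by
  classical
  have : Fintype G := Fintype.ofFinite G
  have : Fintype (Subgroup.centralizer ({x} : Set G)) := Fintype.ofFinite _
  rw [Nat.card_eq_fintype_card, ← Finset.card_univ,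
    Finset.card_eq_sum_card_fiberwise (f := fun g => g * x * g⁻¹) (t := D) (fun g _ => hD g)]
  refine (Finset.sum_le_card_nsmul _ _ (Nat.card (Subgroup.centralizer ({x} : Set G))) ?_)
  intro y _
  rcases (Finset.univ.filter fun g => g * x * g⁻¹ = y).eq_empty_or_nonempty with h | ⟨g₀, hg₀⟩
  · rw [h]; simp
  · simp only [Finset.mem_filter, Finset.mem_univ, true_and] at hg₀
    rw [Nat.card_eq_fintype_card, ← Fintype.card_subtype]
    refine Fintype.card_le_of_injective (fun g => ⟨g₀⁻¹ * g.1, ?_⟩) ?_
    · rw [Subgroup.mem_centralizer_iff]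
      intro z hz
      have hz' : z = x := hz
      rw [hz']
      have h1 := g.2
      have h2 : g.1 * x * g.1⁻¹ = g₀ * x * g₀⁻¹ := h1.trans hg₀.symm
      have h3 : g₀⁻¹ * g.1 * x = x * (g₀⁻¹ * g.1) := by
        calc g₀⁻¹ * g.1 * x = g₀⁻¹ * (g.1 * x * g.1⁻¹) * g.1 := by group
          _ = g₀⁻¹ * (g₀ * x * g₀⁻¹) * g.1 := by rw [h2]
          _ = x * (g₀⁻¹ * g.1) := by group
      exact h3.symm
    · intro g g' h
      have h1 : g₀⁻¹ * g.1 = g₀⁻¹ * g'.1 := congrArg Subtype.val h
      exact Subtype.ext (mul_left_cancel h1)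

section
variable {α : Type*} [Fintype α] [DecidableEq α] (G : Subgroup (Equiv.Perm α))

/-- Structure of finite sharply doubly transitive groups: the fixed-point-free elements together with `1`
form a regular normal elementary abelian subgroup, and the degree is a prime power. -/
theorem sharp2_structure [MulAction.IsMultiplyPretransitive G α 2]
    (hsharp : ∀ x : Fin 2 ↪ α, MulAction.stabilizer G x = ⊥) (h2 : 2 ≤ Fintype.card α) :
    ∃ (P : Subgroup G) (p j : ℕ), p.Prime ∧ 1 ≤ j ∧ Fintype.card α = p ^ j ∧ P.Normal ∧
      (∀ x ∈ P, ∀ y ∈ P, x * y = y * x) ∧ (∀ x ∈ P, x ^ p = 1) ∧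
      MulAction.IsPretransitive P α ∧ (∀ a : α, MulAction.stabilizer P a = ⊥) ∧
      (∀ g : G, g ∈ P ↔ g = 1 ∨ ∀ a : α, g • a ≠ a) ∧ Nat.card G = Fintype.card α * (Fintype.card α - 1) := by
  classical
  set n := Fintype.card α with hn
  have h2t : ∀ {a b c d : α}, a ≠ b → c ≠ d → ∃ g : G, g • a = c ∧ g • b = d :=
    MulAction.is_two_pretransitive_iff.mp inferInstance
  -- an element fixing two points is trivial
  have huniq : ∀ (g : G) (a b : α), a ≠ b → g • a = a → g • b = b → g = 1 := by
    intro g a b hab ha hb
    have h1 : g ∈ MulAction.stabilizer G (Function.Embedding.embFinTwo hab : Fin 2 ↪ α) := by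
      rw [MulAction.mem_stabilizer_iff]
      ext i
      fin_cases i
      · exact ha
      · exact hb
    rw [hsharp, Subgroup.mem_bot] at h1
    exact h1
  have : Finite G := inferInstance
  have : Fintype G := Fintype.ofFinite G
  -- order of `G`
  have hGcard : Nat.card G = n * (n - 1) := by
    obtain ⟨a, b, hab⟩ : ∃ a b : α, a ≠ b := by
      have : Nontrivial α := Fintype.one_lt_card_iff_nontrivial.mp (by omega)
      exact exists_pair_ne α
    have hb : Function.Bijective (fun g : G => g • (Function.Embedding.embFinTwo hab : Fin 2 ↪ α)) := by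
      constructor
      · intro g g' h
        have h1 : g'⁻¹ * g ∈ MulAction.stabilizer G (Function.Embedding.embFinTwo hab : Fin 2 ↪ α) := by
          rw [MulAction.mem_stabilizer_iff]
          have h' : g • (Function.Embedding.embFinTwo hab : Fin 2 ↪ α) = g' • (Function.Embedding.embFinTwo hab : Fin 2 ↪ α) := h
          calc (g'⁻¹ * g) • (Function.Embedding.embFinTwo hab : Fin 2 ↪ α)
              = g'⁻¹ • (g • (Function.Embedding.embFinTwo hab : Fin 2 ↪ α)) := mul_smul _ _ _
            _ = g'⁻¹ • (g' • (Function.Embedding.embFinTwo hab : Fin 2 ↪ α)) := congrArg _ h'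
            _ = _ := inv_smul_smul _ _
        rw [hsharp, Subgroup.mem_bot] at h1
        have h3 := congrArg (g' * ·) h1
        simpa using h3
      · intro y
        exact MulAction.exists_smul_eq G _ y
    rw [Nat.card_eq_of_bijective _ hb, Nat.card_eq_fintype_card, Fintype.card_embedding_eq]
    simp [Nat.descFactorial, ← hn]
    ring
  have hGpos : 0 < Nat.card G := Nat.card_pos
  have htr : MulAction.IsPretransitive G α := MulAction.isPretransitive_of_is_two_pretransitive
  -- Burnside's lemma
  let fx : G → ℕ := fun g => (Finset.univ.filter fun a : α => g • a = a).card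
  have hburn : ∑ g : G, fx g = Nat.card G := by
    have h1 := MulAction.sum_card_fixedBy_eq_card_orbits_mul_card_group G α
    have h3 : Fintype.card (MulAction.orbitRel.Quotient G α) = 1 := by
      have hne : Nonempty α := by
        have : 0 < Fintype.card α := by omega
        exact Fintype.card_pos_iff.mp this
      have hsub : Subsingleton (MulAction.orbitRel.Quotient G α) :=
        (MulAction.pretransitive_iff_subsingleton_quotient G α).mp htr
      have hne' : Nonempty (MulAction.orbitRel.Quotient G α) := hne.map (Quotient.mk _)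
      exact Fintype.card_eq_one_iff_nonempty_unique.mpr ⟨@Unique.mk' _ (Classical.inhabited_of_nonempty hne') hsub⟩
    rw [h3, one_mul] at h1
    rw [Nat.card_eq_fintype_card, ← h1]
    refine Finset.sum_congr rfl fun g _ => ?_
    simp only [fx]
    rw [← Fintype.card_subtype]
    apply Fintype.card_congr
    exact Equiv.subtypeEquivRight (fun a => MulAction.mem_fixedBy.symm)
  have hfx1 : fx 1 = n := by
    simp [fx, hn]
  have hfxle : ∀ g : G, g ≠ 1 → fx g ≤ 1 := by
    intro g hg
    apply Finset.card_le_one.mpr
    intro a ha b hb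
    simp only [Finset.mem_filter, Finset.mem_univ, true_and] at ha hb
    by_contra hab
    exact hg (huniq g a b hab ha hb)
  let D : Finset G := Finset.univ.filter fun g : G => ∀ a : α, g • a ≠ a
  have hD0 : ∀ g : G, g ∈ D ↔ fx g = 0 := by
    intro g
    simp only [D, fx, Finset.mem_filter, Finset.mem_univ, true_and, Finset.card_eq_zero,
      Finset.filter_eq_empty_iff]
    exact ⟨fun h a _ => h a, fun h a => h trivial⟩
  have hDne1 : ∀ g ∈ D, g ≠ 1 := by
    intro g hg h1
    rw [hD0, h1, hfx1] at hg
    omega
  have hDcard : D.card = n - 1 := by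
    have h3 : ∑ g ∈ (Finset.univ : Finset G).erase 1, (fx g + if g ∈ D then 1 else 0) = Nat.card G - 1 := by
      rw [Finset.sum_congr rfl (g := fun _ => 1)]
      · simp [Nat.card_eq_fintype_card, Finset.card_erase_of_mem]
      · intro g hg
        have hg1 : g ≠ 1 := Finset.ne_of_mem_erase hg
        have h4 := hfxle g hg1
        have h5 := hD0 g
        by_cases h6 : g ∈ D
        · rw [if_pos h6, h5.mp h6]
        · rw [if_neg h6]
          have : fx g ≠ 0 := fun h => h6 (h5.mpr h)
          omega
    rw [Finset.sum_add_distrib] at h3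
    have h4 : ∑ g ∈ (Finset.univ : Finset G).erase 1, (if g ∈ D then 1 else 0) = D.card := by
      rw [← Finset.card_filter]
      congr 1
      ext g
      simp only [Finset.mem_filter, Finset.mem_erase, Finset.mem_univ, and_true]
      exact ⟨fun h => h.2, fun h => ⟨hDne1 g h, h⟩⟩
    have h5 := Finset.add_sum_erase (Finset.univ : Finset G) fx (Finset.mem_univ 1)
    rw [hburn, hfx1] at h5
    rw [h4] at h3
    omega
  -- general facts on centralizers
  have hconjD : ∀ x ∈ D, ∀ g : G, g * x * g⁻¹ ∈ D := by
    intro x hx g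
    simp only [D, Finset.mem_filter, Finset.mem_univ, true_and] at hx ⊢
    intro a h
    apply hx (g⁻¹ • a)
    have : (g * x * g⁻¹) • a = a := h
    rw [mul_smul, mul_smul] at this
    rw [eq_inv_smul_iff]
    exact this
  have hnpos : 0 < n := by omega
  obtain ⟨a₀⟩ : Nonempty α := Fintype.card_pos_iff.mp hnpos
  have hCard : ∀ x ∈ D, Nat.card (Subgroup.centralizer ({x} : Set G)) = n := by
    intro x hx
    apply le_antisymm
    · rw [hn, ← Nat.card_eq_fintype_card]
      refine Nat.card_le_card_of_injective (fun c : Subgroup.centralizer ({x} : Set G) => (c : G) • a₀) ?_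
      intro c c' h
      have h' : (c : G) • a₀ = (c' : G) • a₀ := h
      have hcx : ∀ d : Subgroup.centralizer ({x} : Set G), x * (d : G) = (d : G) * x := fun d =>
        Subgroup.mem_centralizer_iff.mp d.2 x rfl
      have h3 : ((c' : G)⁻¹ * (c : G)) = 1 := by
        apply huniq _ a₀ (x • a₀)
        · have := (Finset.mem_filter.mp hx).2 a₀
          exact fun h => this h.symm
        · rw [mul_smul, h', inv_smul_smul]
        · rw [mul_smul, ← mul_smul (c : G) x a₀, ← hcx c, mul_smul x (c : G) a₀, h', ← mul_smul x (c' : G) a₀, hcx c',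
            mul_smul, inv_smul_smul]
      apply Subtype.ext
      have h4 := congrArg ((c' : G) * ·) h3
      simpa using h4
    · have h3 := card_le_mul_card_centralizer x D (hconjD x hx)
      rw [hGcard, hDcard, mul_comm n] at h3
      have h4 : 0 < n - 1 := by omega
      exact Nat.le_of_mul_le_mul_left h3 h4
  have hCinD : ∀ x ∈ D, ∀ g : G, g ∈ Subgroup.centralizer ({x} : Set G) → g ≠ 1 → g ∈ D := by
    intro x hx g hg hg1
    simp only [D, Finset.mem_filter, Finset.mem_univ, true_and]
    intro a ha
    have hcx : x * g = g * x := Subgroup.mem_centralizer_iff.mp hg x rfl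
    apply hg1
    apply huniq g a (x • a)
    · have := (Finset.mem_filter.mp hx).2 a
      exact fun h => this h.symm
    · exact ha
    · rw [← mul_smul, ← hcx, mul_smul, ha]
  have hCiff : ∀ x ∈ D, ∀ g : G, g ∈ Subgroup.centralizer ({x} : Set G) ↔ g = 1 ∨ g ∈ D := by
    intro x hx g
    let Cf : Finset G := Finset.univ.filter fun g => g ∈ Subgroup.centralizer ({x} : Set G)
    have hCf : Cf.card = n := by
      rw [← hCard x hx, Nat.card_eq_fintype_card, Fintype.card_subtype]
    have hsub : Cf.erase 1 ⊆ D := by
      intro y hy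
      rw [Finset.mem_erase] at hy
      exact hCinD x hx y (Finset.mem_filter.mp hy.2).2 hy.1
    have h1mem : (1 : G) ∈ Cf := Finset.mem_filter.mpr ⟨Finset.mem_univ _, one_mem _⟩
    have heq : Cf.erase 1 = D := by
      apply Finset.eq_of_subset_of_card_le hsub
      rw [Finset.card_erase_of_mem h1mem, hCf, hDcard]
    constructor
    · intro hg
      by_cases hg1 : g = 1
      · exact Or.inl hg1
      · exact Or.inr (hCinD x hx g hg hg1)
    · rintro (rfl | hg)
      · exact one_mem _
      · rw [← heq] at hg
        exact (Finset.mem_filter.mp (Finset.mem_erase.mp hg).2).2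
  have hConj : ∀ x ∈ D, ∀ y ∈ D, ∃ g : G, g * x * g⁻¹ = y := by
    intro x hx
    let cl : Finset G := Finset.univ.image fun g : G => g * x * g⁻¹
    have hclsub : cl ⊆ D := by
      intro y hy
      obtain ⟨g, _, rfl⟩ := Finset.mem_image.mp hy
      exact hconjD x hx g
    have h3 := card_le_mul_card_centralizer x cl (fun g => Finset.mem_image.mpr ⟨g, Finset.mem_univ _, rfl⟩)
    rw [hGcard, hCard x hx] at h3
    have h4 : n - 1 ≤ cl.card := by
      rw [mul_comm n] at h3
      exact Nat.le_of_mul_le_mul_right h3 hnpos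
    have heq : cl = D := by
      apply Finset.eq_of_subset_of_card_le hclsub
      rw [hDcard]
      exact h4
    intro y hy
    rw [← heq] at hy
    obtain ⟨g, _, rfl⟩ := Finset.mem_image.mp hy
    exact ⟨g, rfl⟩
  -- the subgroup
  obtain ⟨x₀, hx₀⟩ : D.Nonempty := by
    rw [← Finset.card_pos, hDcard]
    omega
  set P := Subgroup.centralizer ({x₀} : Set G) with hP
  have hPiff := hCiff x₀ hx₀
  have hPcard : Nat.card P = n := hCard x₀ hx₀
  have hcomm : ∀ x ∈ P, ∀ y ∈ P, x * y = y * x := by
    intro x hx y hy
    rcases (hPiff x).mp hx with rfl | hxD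
    · simp
    · have : y ∈ Subgroup.centralizer ({x} : Set G) := by
        rw [hCiff x hxD]
        exact (hPiff y).mp hy
      exact Subgroup.mem_centralizer_iff.mp this x rfl
  have hnorm : P.Normal := by
    refine ⟨fun g hg h => ?_⟩
    rw [hPiff] at hg ⊢
    rcases hg with rfl | hg
    · left; simp
    · right; exact hconjD g hg h
  have hstab : ∀ a : α, MulAction.stabilizer P a = ⊥ := by
    intro a
    rw [eq_bot_iff]
    intro m hm
    rw [Subgroup.mem_bot]
    rcases (hPiff m).mp m.2 with h | h
    · exact Subtype.ext h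
    · exact absurd hm ((Finset.mem_filter.mp h).2 a)
  have hPtr : MulAction.IsPretransitive P α := by
    have hinj : ∀ a : α, Function.Bijective (fun m : P => m • a) := by
      intro a
      have hi : Function.Injective (fun m : P => m • a) := by
        intro m m' h
        have h' : m • a = m' • a := h
        have h1 : m'⁻¹ * m ∈ MulAction.stabilizer P a := by
          rw [MulAction.mem_stabilizer_iff, mul_smul, h', inv_smul_smul]
        rw [hstab, Subgroup.mem_bot] at h1
        have h3 := congrArg (m' * ·) h1
        simpa using h3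
      apply hi.bijective_of_nat_card_le
      rw [hPcard, hn, Nat.card_eq_fintype_card]
    refine ⟨fun x y => ?_⟩
    obtain ⟨m, hm⟩ := (hinj x).2 y
    exact ⟨m, hm⟩
  have hn1 : Nat.card P ≠ 1 := by rw [hPcard]; omega
  obtain ⟨p, hp, hpd⟩ := Nat.exists_prime_and_dvd hn1
  have : Fact p.Prime := ⟨hp⟩
  obtain ⟨z, hz⟩ := exists_prime_orderOf_dvd_card' p hpd
  have hzD : (z : G) ∈ D := by
    rcases (hPiff z).mp z.2 with h | h
    · exfalso
      have : z = 1 := Subtype.ext h
      rw [this, orderOf_one] at hz
      exact hp.one_lt.ne hz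
    · exact h
  have hzp : (z : G) ^ p = 1 := by
    have := pow_orderOf_eq_one z
    rw [hz] at this
    exact congrArg Subtype.val this
  have hexp : ∀ x ∈ P, x ^ p = 1 := by
    intro x hx
    rcases (hPiff x).mp hx with rfl | hxD
    · simp
    · obtain ⟨g, rfl⟩ := hConj _ hzD x hxD
      rw [conj_pow, hzp, mul_one, mul_inv_cancel]
  have hPp : IsPGroup p P := by
    intro m
    refine ⟨1, ?_⟩
    apply Subtype.ext
    simpa using hexp m m.2
  obtain ⟨j, hj⟩ := IsPGroup.iff_card.mp hPp
  rw [hPcard] at hj
  have hj1 : 1 ≤ j := by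
    by_contra h
    have : j = 0 := by omega
    rw [this, pow_zero] at hj
    omega
  refine ⟨P, p, j, hp, hj1, hj, hnorm, hcomm, hexp, hPtr, hstab, ?_, hGcard⟩
  intro g
  rw [hPiff]
  simp only [D, Finset.mem_filter, Finset.mem_univ, true_and]

end

end Cfsg.Agent.H03
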