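import Mathlib
import Cfsg.Agent.Lib.H03.PR
import Cfsg.Agent.Lib.H03.Sharp2

/-! A field from a regular abelian action; sharply triply transitive groups with inverted two-point stabiliser. -/

set_option autoImplicit false

namespace Cfsg.Agent.H03.PR

open OnePoint Matrix
open scoped MatrixGroups

universe u v

/-- A field structure from two regular abelian actions. -/
theorem exists_field_of_action {Y : Type v} {Γ : Type u} [Group Γ] [MulAction Γ Y] (E H : Subgroup Γ)
    (o e : Y) (hoe : o ≠ e)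
    (hEab : ∀ x ∈ E, ∀ y ∈ E, x * y = y * x)
    (hEreg : ∀ y : Y, ∃ u ∈ E, u • o = y)
    (hEuniq : ∀ u ∈ E, ∀ v ∈ E, u • o = v • o → u = v)
    (hHo : ∀ h ∈ H, h • o = o)
    (hHab : ∀ x ∈ H, ∀ y ∈ H, x * y = y * x)
    (hHreg : ∀ y : Y, y ≠ o → ∃ h ∈ H, h • e = y)
    (hHuniq : ∀ u ∈ H, ∀ v ∈ H, u • e = v • e → u = v)
    (hnorm : ∀ h ∈ H, ∀ u ∈ E, h * u * h⁻¹ ∈ E) :
    ∃ _ : Field Y, (0 : Y) = o ∧ (1 : Y) = e ∧ (∀ u ∈ E, ∀ y : Y, u • y = u • o + y) ∧
      (∀ h ∈ H, ∀ y : Y, h • y = (h • e) * y) := by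
  classical
  choose u hu1 hu2 using hEreg
  have hu3 : ∀ v ∈ E, u (v • o) = v := fun v hv => hEuniq _ (hu1 _) _ hv (hu2 _)
  have hm : ∀ y : Y, ∃ h : Γ, h ∈ H ∧ (y ≠ o → h • e = y) := by
    intro y
    by_cases hy : y = o
    · exact ⟨1, one_mem _, fun h => absurd hy h⟩
    · obtain ⟨h, h1, h2⟩ := hHreg y hy
      exact ⟨h, h1, fun _ => h2⟩
  choose m hm1 hm2 using hm
  have hm3 : ∀ h ∈ H, m (h • e) = h := by
    intro h hh
    have hne : h • e ≠ o := by
      intro h0
      apply hoe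
      have h1 := hHo h hh
      exact (MulAction.injective h (h1.trans h0.symm)).symm ▸ rfl
    exact hHuniq _ (hm1 _) _ hh (hm2 _ hne)
  let addY : Y → Y → Y := fun x y => u x • y
  let negY : Y → Y := fun x => (u x)⁻¹ • o
  let mulY : Y → Y → Y := fun x y => if x = o then o else m x • y
  letI : Add Y := ⟨addY⟩
  letI : Neg Y := ⟨negY⟩
  letI : Mul Y := ⟨mulY⟩
  letI : Zero Y := ⟨o⟩
  letI : One Y := ⟨e⟩
  have hadd : ∀ x y : Y, x + y = u x • y := fun _ _ => rfl
  have hmul : ∀ x y : Y, x * y = if x = o then o else m x • y := fun _ _ => rfl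
  have hneg : ∀ x : Y, -x = (u x)⁻¹ • o := fun _ => rfl
  have h0 : (0 : Y) = o := rfl
  have h1 : (1 : Y) = e := rfl
  have hu0 : u o = 1 := hEuniq _ (hu1 _) _ (one_mem _) (by rw [hu2, one_smul])
  have hm1e : m e = 1 := hHuniq _ (hm1 _) _ (one_mem _) (by rw [hm2 e hoe.symm, one_smul])
  have huadd : ∀ x y : Y, u (u x • y) = u x * u y := by
    intro x y
    apply hEuniq _ (hu1 _) _ (mul_mem (hu1 _) (hu1 _))
    rw [hu2, mul_smul, hu2]
  have hadd_comm : ∀ a b : Y, a + b = b + a := by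
    intro a b
    rw [hadd, hadd]
    conv_lhs => rw [← hu2 b]
    conv_rhs => rw [← hu2 a]
    rw [← mul_smul, ← mul_smul, hEab _ (hu1 a) _ (hu1 b)]
  have hmo : ∀ x : Y, m x • o = o := fun x => hHo _ (hm1 x)
  have hne_smul : ∀ x y : Y, x ≠ o → y ≠ o → m x • y ≠ o := by
    intro x y _ hy h2
    apply hy
    rw [← hmo x] at h2
    exact MulAction.injective (m x) h2
  have hmm : ∀ x y : Y, x ≠ o → y ≠ o → m (m x • y) = m x * m y := by
    intro x y hx hy
    apply hHuniq _ (hm1 _) _ (mul_mem (hm1 _) (hm1 _))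
    rw [hm2 _ (hne_smul x y hx hy), mul_smul, hm2 _ hy]
  have hmul_assoc : ∀ a b c : Y, a * b * c = a * (b * c) := by
    intro a b c
    rw [hmul, hmul, hmul, hmul]
    by_cases ha : a = o
    · simp [ha]
    by_cases hb : b = o
    · simp [hb, ha, hmo]
    have hab := hne_smul a b ha hb
    simp only [ha, hb, hab, if_false]
    rw [hmm a b ha hb, mul_smul]
  have hmul_comm : ∀ a b : Y, a * b = b * a := by
    intro a b
    rw [hmul, hmul]
    by_cases ha : a = o
    · simp [ha, hmo]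
    by_cases hb : b = o
    · simp [hb, hmo]
    simp only [ha, hb, if_false]
    conv_lhs => rw [← hm2 b hb]
    conv_rhs => rw [← hm2 a ha]
    rw [← mul_smul, ← mul_smul, hHab _ (hm1 a) _ (hm1 b)]
  have hone_mul : ∀ a : Y, 1 * a = a := by
    intro a
    rw [hmul, h1, if_neg hoe.symm, hm1e, one_smul]
  have hdistrib : ∀ a b c : Y, a * (b + c) = a * b + a * c := by
    intro a b c
    rw [hmul, hmul, hmul, hadd, hadd]
    by_cases ha : a = o
    · simp only [ha, if_true]
      rw [hu0, one_smul]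
    simp only [ha, if_false]
    have h2 : m a * u b * (m a)⁻¹ ∈ E := hnorm _ (hm1 a) _ (hu1 b)
    have h3 : u (m a • b) = m a * u b * (m a)⁻¹ := by
      apply hEuniq _ (hu1 _) _ h2
      rw [hu2, mul_smul, mul_smul, inv_smul_eq_iff.2 (hmo a).symm, hu2]
    rw [h3, mul_smul, mul_smul, inv_smul_smul]
  letI cr : CommRing Y := CommRing.ofMinimalAxioms
    (fun a b c => by
      rw [hadd, hadd, hadd, hadd, huadd, mul_smul])
    (fun a => by
      rw [hadd, h0, hu0, one_smul])
    (fun a => by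
      rw [hadd, hneg, hu3 _ (inv_mem (hu1 a))]
      have h5 : (u a)⁻¹ • a = o := by rw [inv_smul_eq_iff, hu2]
      exact h5)
    hmul_assoc hmul_comm hone_mul hdistrib
  have hfield : IsField Y := by
    refine ⟨⟨o, e, hoe⟩, hmul_comm, ?_⟩
    intro a ha
    have ha' : a ≠ o := ha
    refine ⟨(m a)⁻¹ • e, ?_⟩
    show (if a = o then o else m a • ((m a)⁻¹ • e)) = e
    rw [if_neg ha', smul_inv_smul]
  refine ⟨hfield.toField, rfl, rfl, ?_, ?_⟩
  · intro v hv y
    show v • y = u (v • o) • y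
    rw [hu3 v hv]
  · intro h hh y
    have hne : h • e ≠ o := by
      intro h0
      apply hoe
      have h1 := hHo h hh
      exact (MulAction.injective h (h1.trans h0.symm)).symm ▸ rfl
    show h • y = if h • e = o then o else m (h • e) • y
    rw [if_neg hne, hm3 h hh]

end Cfsg.Agent.H03.PR
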