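import Mathlib
import Cfsg.Agent.Lib.H03.PR2

/-! Sharply triply transitive groups with inverted two-point stabiliser are `PGL₂`. -/

set_option autoImplicit false

namespace Cfsg.Agent.H03.PR

open OnePoint Matrix Cfsg.Agent.H17.Mob
open scoped MatrixGroups

universe u v

/-- Sharply doubly transitive actions: abstract form. -/
theorem sharp2_abstract {Γ : Type u} {Y : Type v} [Group Γ] [MulAction Γ Y] [Fintype Y] [DecidableEq Y]
    (hY : 2 ≤ Fintype.card Y)
    (h2 : ∀ a b c d : Y, a ≠ b → c ≠ d → ∃ g : Γ, g • a = c ∧ g • b = d)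
    (hr : ∀ (g : Γ) (a b : Y), a ≠ b → g • a = a → g • b = b → g = 1) :
    ∃ (E : Subgroup Γ) (p j : ℕ), p.Prime ∧ 1 ≤ j ∧ Fintype.card Y = p ^ j ∧ E.Normal ∧
      (∀ x ∈ E, ∀ y ∈ E, x * y = y * x) ∧ (∀ x ∈ E, x ^ p = 1) ∧
      (∀ a b : Y, ∃ u ∈ E, u • a = b) ∧ (∀ u ∈ E, ∀ a : Y, u • a = a → u = 1) := by
  classical
  let φ := MulAction.toPermHom Γ Y
  obtain ⟨y₀, y₁, hy⟩ := Fintype.exists_pair_of_one_lt_card (by omega : 1 < Fintype.card Y)
  have hφ : Function.Injective φ := by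
    rw [injective_iff_map_eq_one]
    intro g hg
    have h1 : ∀ y : Y, g • y = y := fun y => by
      have := congrArg (fun f : Equiv.Perm Y => f y) hg
      exact this
    exact hr g y₀ y₁ hy (h1 _) (h1 _)
  let Gp : Subgroup (Equiv.Perm Y) := φ.range
  have hsm : ∀ (g : Γ) (y : Y), ((φ.rangeRestrict g : Gp)) • y = g • y := fun _ _ => rfl
  have hsurj : Function.Surjective φ.rangeRestrict := MonoidHom.rangeRestrict_surjective φ
  haveI : MulAction.IsMultiplyPretransitive Gp Y 2 := by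
    rw [MulAction.is_two_pretransitive_iff]
    intro a b c d hab hcd
    obtain ⟨g, h3, h4⟩ := h2 a b c d hab hcd
    exact ⟨φ.rangeRestrict g, h3, h4⟩
  have hs : ∀ x : Fin 2 ↪ Y, MulAction.stabilizer Gp x = ⊥ := by
    intro x
    rw [eq_bot_iff]
    intro s hs
    obtain ⟨g, rfl⟩ := hsurj s
    have h3 : ∀ i, g • x i = x i := by
      intro i
      have := congrArg (fun z : Fin 2 ↪ Y => z i) (MulAction.mem_stabilizer_iff.1 hs)
      exact this
    have h4 : g = 1 := hr g (x 0) (x 1) (fun h => absurd (x.injective h) (by decide)) (h3 0) (h3 1)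
    rw [h4, map_one]
    exact one_mem _
  obtain ⟨P, p, j, hp, hj, hcard, hPn, hPab, hPp, hPt, hPs, -, -⟩ := sharp2_structure Gp hs hY
  refine ⟨P.comap φ.rangeRestrict, p, j, hp, hj, hcard, ?_, ?_, ?_, ?_, ?_⟩
  · exact Subgroup.Normal.comap hPn _
  · intro x hx y hy
    apply hφ
    have := hPab _ hx _ hy
    have h5 : φ.rangeRestrict x * φ.rangeRestrict y = φ.rangeRestrict y * φ.rangeRestrict x := this
    have h6 : (φ.rangeRestrict x).1 * (φ.rangeRestrict y).1 = (φ.rangeRestrict y).1 * (φ.rangeRestrict x).1 :=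
      congrArg Subtype.val h5
    rw [map_mul, map_mul]
    exact h6
  · intro x hx
    apply hφ
    have := hPp _ hx
    have h5 := congrArg Subtype.val this
    rw [map_pow, map_one]
    exact h5
  · intro a b
    obtain ⟨w, hw⟩ := hPt.exists_smul_eq a b
    obtain ⟨g, hg⟩ := hsurj w.1
    refine ⟨g, ?_, ?_⟩
    · show φ.rangeRestrict g ∈ P
      rw [hg]
      exact w.2
    · have h6 : (w.1 : Gp) • a = b := hw
      rw [← hg, hsm] at h6
      exact h6
  · intro u hu a ha
    have h7 : (⟨φ.rangeRestrict u, hu⟩ : P) ∈ MulAction.stabilizer P a := ha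
    rw [hPs a] at h7
    have h8 : φ.rangeRestrict u = 1 := congrArg Subtype.val ((Subgroup.mem_bot).1 h7)
    apply hφ
    rw [map_one]
    exact congrArg Subtype.val h8

/-- Sharply triply transitive actions -/
structure Sharp3 (G : Type u) (α : Type v) [Group G] [MulAction G α] : Prop where
  trans : ∀ a b c a' b' c' : α, a ≠ b → a ≠ c → b ≠ c → a' ≠ b' → a' ≠ c' → b' ≠ c' →
    ∃ g : G, g • a = a' ∧ g • b = b' ∧ g • c = c'
  rigid : ∀ (g : G) (a b c : α), a ≠ b → a ≠ c → b ≠ c → g • a = a → g • b = b → g • c = c → g = 1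

section
variable {G : Type u} {α : Type v} [Group G] [MulAction G α]

/-- the action of a point stabiliser on the other points -/
def actY (inf : α) : MulAction (MulAction.stabilizer G inf) {y : α // y ≠ inf} where
  smul g y := ⟨g.1 • y.1, fun h => y.2 (by
    have h1 : g.1 • inf = inf := g.2
    exact MulAction.injective g.1 (h.trans h1.symm))⟩
  one_smul y := Subtype.ext (one_smul G y.1)
  mul_smul g g' y := Subtype.ext (mul_smul g.1 g'.1 y.1)

/-- the line model -/
theorem exists_line_equiv {β K : Type*} (inf : β) [DecidableEq β] (φ : {y : β // y ≠ inf} ≃ K) :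
    ∃ e₀ : β ≃ OnePoint K, e₀ inf = ∞ ∧ ∀ y : {y : β // y ≠ inf}, e₀ y.1 = ((φ y : K) : OnePoint K) := by
  let E : β ≃ Option K := (Equiv.optionSubtypeNe inf).symm.trans (Equiv.optionCongr φ)
  have h1 : E inf = none := by
    simp only [E, Equiv.trans_apply, Equiv.optionSubtypeNe_symm_self]
    rfl
  have h2 : ∀ y : {y : β // y ≠ inf}, E y.1 = Option.some (φ y) := by
    intro y
    simp only [E, Equiv.trans_apply, Equiv.optionSubtypeNe_symm_of_ne y.2]
    rfl
  exact ⟨E, h1, h2⟩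

/-- the permutation representation on the line model -/
theorem exists_line_hom {K : Type*} (e₀ : α ≃ OnePoint K) (hfaith : ∀ g : G, (∀ x : α, g • x = x) → g = 1) :
    ∃ ψ : G →* Equiv.Perm (OnePoint K), Function.Injective ψ ∧
      ∀ (g : G) (x : α), ψ g (e₀ x) = e₀ (g • x) := by
  let ψ : G →* Equiv.Perm (OnePoint K) := (e₀.permCongrHom).toMonoidHom.comp (MulAction.toPermHom G α)
  have h2 : ∀ (g : G) (x : α), ψ g (e₀ x) = e₀ (g • x) := by
    intro g x
    show e₀ ((MulAction.toPermHom G α g) (e₀.symm (e₀ x))) = _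
    rw [Equiv.symm_apply_apply]
    rfl
  refine ⟨ψ, ?_, h2⟩
  rw [injective_iff_map_eq_one]
  intro g hg
  apply hfaith
  intro x
  apply e₀.injective
  rw [← h2, hg]
  rfl

theorem pgl_of_sharp3 [Fintype α] (hS : Sharp3 G α) (inf o e : α) (h1 : inf ≠ o) (h2 : inf ≠ e) (h3 : o ≠ e)
    (t : G) (ht1 : t • inf = o) (ht2 : t • o = inf) (ht3 : t • e = e)
    (htinv : ∀ h : G, h • inf = inf → h • o = o → t * h * t⁻¹ = h⁻¹)
    (p f : ℕ) [Fact p.Prime] (hf : f ≠ 0) (hα : Fintype.card α = p ^ f + 1) :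
    Nonempty (G ≃* Matrix.ProjGenLinGroup (Fin 2) (GaloisField p f)) := by
  classical
  letI := actY (G := G) inf
  let Γ := MulAction.stabilizer G inf
  let Y := {y : α // y ≠ inf}
  have hsmul : ∀ (g : Γ) (y : Y), ((g • y : Y) : α) = g.1 • y.1 := fun _ _ => rfl
  have hcardY : Fintype.card Y = p ^ f := by
    have h0 : Fintype.card Y = Fintype.card α - 1 := by
      rw [Fintype.card_subtype_compl, Fintype.card_subtype_eq]
    rw [h0, hα]
    omega
  have hp2 : 2 ≤ p ^ f := by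
    have := (Fact.out : p.Prime).two_le
    calc 2 ≤ p := this
      _ = p ^ 1 := (pow_one p).symm
      _ ≤ p ^ f := Nat.pow_le_pow_right (by omega) (by omega)
  let o' : Y := ⟨o, h1.symm⟩
  let e' : Y := ⟨e, h2.symm⟩
  have hoe' : o' ≠ e' := fun h => h3 (congrArg Subtype.val h)
  have hex : ∀ a b c d : Y, a ≠ b → c ≠ d → ∃ g : Γ, g • a = c ∧ g • b = d := by
    intro a b c d hab hcd
    have hab' : a.1 ≠ b.1 := fun h => hab (Subtype.ext h)
    have hcd' : c.1 ≠ d.1 := fun h => hcd (Subtype.ext h)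
    obtain ⟨g, h4, h5, h6⟩ := hS.trans inf a.1 b.1 inf c.1 d.1 a.2.symm b.2.symm hab' c.2.symm d.2.symm hcd'
    exact ⟨⟨g, h4⟩, Subtype.ext h5, Subtype.ext h6⟩
  have hrig : ∀ (g : Γ) (a b : Y), a ≠ b → g • a = a → g • b = b → g = 1 := by
    intro g a b hab h4 h5
    have hab' : a.1 ≠ b.1 := fun h => hab (Subtype.ext h)
    have h6 : g.1 • a.1 = a.1 := congrArg Subtype.val h4
    have h7 : g.1 • b.1 = b.1 := congrArg Subtype.val h5
    exact Subtype.ext (hS.rigid g.1 inf a.1 b.1 a.2.symm b.2.symm hab' g.2 h6 h7)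
  obtain ⟨E, p', j, hp', hj, hcardE, hEn, hEab, -, hEt, hEs⟩ :=
    sharp2_abstract (Γ := Γ) (Y := Y) (by omega) hex hrig
  let H : Subgroup Γ := MulAction.stabilizer Γ o'
  have hHmem : ∀ h : Γ, h ∈ H ↔ h • o' = o' := fun _ => Iff.rfl
  have hHreg : ∀ y : Y, y ≠ o' → ∃ h ∈ H, h • e' = y := by
    intro y hy
    have hy' : y.1 ≠ o := fun h => hy (Subtype.ext h)
    obtain ⟨g, h4, h5, h6⟩ := hS.trans inf o e inf o y.1 h1 h2 h3 h1 y.2.symm hy'.symm
    exact ⟨⟨g, h4⟩, Subtype.ext h5, Subtype.ext h6⟩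
  obtain ⟨hF, hF0, hF1, hFE, hFH⟩ := exists_field_of_action (Y := Y) (Γ := Γ) E H o' e' hoe' hEab
    (fun y => hEt o' y)
    (fun u hu v hv huv => by
      have h4 : (v⁻¹ * u) • o' = o' := by rw [mul_smul, huv, inv_smul_smul]
      have h5 := hEs _ (mul_mem (inv_mem hv) hu) o' h4
      exact (inv_mul_eq_one.1 h5).symm)
    (fun h hh => hh)
    (fun x hx y hy => by
      have hinv' : ∀ z ∈ H, t * z.1 * t⁻¹ = z.1⁻¹ := fun z hz => htinv z.1 z.2 (congrArg Subtype.val hz)
      have h4 : t * (x * y).1 * t⁻¹ = (x * y).1⁻¹ := hinv' _ (mul_mem hx hy)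
      have h5 : t * (x * y).1 * t⁻¹ = (t * x.1 * t⁻¹) * (t * y.1 * t⁻¹) := by
        show t * (x.1 * y.1) * t⁻¹ = _
        group
      rw [h5, hinv' x hx, hinv' y hy] at h4
      apply Subtype.ext
      show x.1 * y.1 = y.1 * x.1
      have h6 : (x.1 * y.1)⁻¹ = (y.1 * x.1)⁻¹ := by
        show (x * y).1⁻¹ = _
        rw [← h4]
        group
      exact inv_injective h6)
    hHreg
    (fun u hu v hv huv => by
      have h4 : (v⁻¹ * u) • e' = e' := by rw [mul_smul, huv, inv_smul_smul]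
      have h5 : (v⁻¹ * u) • o' = o' := mul_mem (inv_mem hv) hu
      exact (inv_mul_eq_one.1 (hrig _ _ _ hoe'.symm h4 h5)).symm)
    (fun h _ u hu => hEn.conj_mem u hu h)
  letI : Field Y := hF
  let K := GaloisField p f
  letI : Fintype K := Fintype.ofFinite K
  have hcardK : Fintype.card K = p ^ f := by
    rw [← Nat.card_eq_fintype_card]
    exact GaloisField.card p f hf
  let φ : Y ≃+* K := FiniteField.ringEquivOfCardEq (by rw [hcardY, hcardK])
  obtain ⟨e₀, he₀inf, he₀1⟩ := exists_line_equiv inf φ.toEquiv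
  have he₀ : ∀ y : Y, e₀ y.1 = ((φ y : K) : OnePoint K) := he₀1
  obtain ⟨ψ, hψ1, hψ2⟩ := exists_line_hom (G := G) e₀ (fun g hg => by
    obtain ⟨b, hb⟩ : ∃ b : α, b ≠ inf ∧ b ≠ o := ⟨e, h2.symm, h3.symm⟩
    exact hS.rigid g inf o e h1 h2 h3 (hg _) (hg _) (hg _))
  have hψinf : ∀ g : G, g • inf = inf → ψ g ∞ = ∞ := by
    intro g hg
    rw [← he₀inf, hψ2, hg]
  have hψy : ∀ (g : Γ) (x : K), ψ g.1 (x : OnePoint K) = ((φ (g • φ.symm x) : K) : OnePoint K) := by
    intro g x
    have h4 : e₀ (φ.symm x).1 = (x : OnePoint K) := by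
      have := he₀ (φ.symm x)
      simpa using this
    rw [← h4, hψ2]
    have h5 := he₀ (g • φ.symm x)
    rw [← h5]
    rfl
  have hG' : ∀ g' : Equiv.Perm (OnePoint K), g' ∞ = ∞ → (g' ∈ ψ.range ↔ ∃ a b : K, a ≠ 0 ∧
      ∀ x : K, g' (x : OnePoint K) = ((a * x + b : K) : OnePoint K)) := by
    intro g' hg'
    constructor
    · rintro ⟨g, rfl⟩
      have hg : g • inf = inf := by
        apply e₀.injective
        rw [← hψ2, he₀inf]
        exact hg'
      let γ : Γ := ⟨g, hg⟩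
      obtain ⟨u, hu, huo⟩ := hEt o' (γ • o')
      have hh : u⁻¹ * γ ∈ H := by
        show (u⁻¹ * γ) • o' = o'
        rw [mul_smul, ← huo, inv_smul_smul]
      have hne : (u⁻¹ * γ) • e' ≠ (0 : Y) := by
        rw [hF0]
        intro h5
        apply hoe'
        have h6 : (u⁻¹ * γ) • o' = o' := hh
        exact MulAction.injective (u⁻¹ * γ) (h6.trans h5.symm)
      refine ⟨φ ((u⁻¹ * γ) • e'), φ (γ • o'), ?_, ?_⟩
      · exact (map_ne_zero φ).2 hne
      · intro x
        rw [hψy γ x]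
        congr 1
        have h7 : γ = u * (u⁻¹ * γ) := by group
        have h8 : γ • φ.symm x = u • ((u⁻¹ * γ) • φ.symm x) := by
          rw [← mul_smul, ← h7]
        rw [h8, hFE u hu, hFH _ hh, huo, map_add, map_mul, RingEquiv.apply_symm_apply, add_comm]
    · rintro ⟨a, b, ha, hab⟩
      have hane : φ.symm a ≠ o' := by
        rw [← hF0]
        exact (map_ne_zero φ.symm).2 ha
      obtain ⟨h, hh, hhe⟩ := hHreg (φ.symm a) hane
      obtain ⟨u, hu, huo⟩ := hEt o' (φ.symm b)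
      refine ⟨(u * h).1, ?_⟩
      apply perm_ext
      · rw [hg']
        exact hψinf _ (u * h).2
      · intro x
        rw [hψy, hab x]
        congr 1
        rw [mul_smul, hFH h hh, hFE u hu, hhe, huo, map_add, map_mul, RingEquiv.apply_symm_apply,
          RingEquiv.apply_symm_apply, RingEquiv.apply_symm_apply, add_comm]
  have ho0 : e₀ o = ((0 : K) : OnePoint K) := by
    have := he₀ o'
    rw [show (o' : α) = o from rfl] at this
    rw [this, ← hF0, map_zero]
  have ht1' : ψ t ∞ = ((0 : K) : OnePoint K) := by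
    rw [← he₀inf, hψ2, ht1, ho0]
  have ht2' : ψ t ((0 : K) : OnePoint K) = ∞ := by
    rw [← ho0, hψ2, ht2, he₀inf]
  have ht3' : ∀ x : K, x ≠ 0 → ψ t (x : OnePoint K) = ((x⁻¹ : K) : OnePoint K) := by
    intro x hx
    have hy : φ.symm x ≠ o' := by
      rw [← hF0]
      exact (map_ne_zero φ.symm).2 hx
    obtain ⟨h, hh, hhe⟩ := hHreg (φ.symm x) hy
    have h4 : e₀ (φ.symm x).1 = (x : OnePoint K) := by
      have := he₀ (φ.symm x)
      simpa using this
    rw [← h4, hψ2, ← hhe]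
    have h5 : t • ((h • e' : Y) : α) = (h⁻¹).1 • e := by
      show t • (h.1 • e) = h.1⁻¹ • e
      have h6 := htinv h.1 h.2 (congrArg Subtype.val hh)
      rw [← h6, mul_smul, mul_smul, inv_smul_eq_iff.2 ht3.symm]
    rw [h5]
    have h7 : (h⁻¹ • e') * (h • e') = 1 := by
      have h8 := hFH h⁻¹ (inv_mem hh) (h • e')
      rw [inv_smul_smul] at h8
      rw [← h8, hF1]
    have h8 : h⁻¹ • e' = (φ.symm x)⁻¹ := by
      rw [← hhe]
      exact eq_inv_of_mul_eq_one_left h7
    have h9 := he₀ (h⁻¹ • e')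
    have h10 : ((h⁻¹ • e' : Y) : α) = h⁻¹.1 • e := rfl
    rw [h10] at h9
    rw [h9, h8, map_inv₀, RingEquiv.apply_symm_apply]
  obtain ⟨Φ⟩ := pgl_of ψ.range hG' (ψ t) ⟨t, rfl⟩ ht1' ht2' ht3'
  exact ⟨(MonoidHom.ofInjective hψ1).trans Φ⟩

end

/-- Conjugation by an involution without fixed points on a finite subgroup inverts it. -/
theorem inv_of_fpf {G : Type*} [Group G] (H : Subgroup G) [Finite H] (t : G) (ht : t * t = 1)
    (hn : ∀ h ∈ H, t * h * t⁻¹ ∈ H) (hf : ∀ h ∈ H, t * h * t⁻¹ = h → h = 1) :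
    ∀ h ∈ H, t * h * t⁻¹ = h⁻¹ := by
  let φ : H →* H := MonoidHom.mk' (fun h => ⟨t * h.1 * t⁻¹, hn h.1 h.2⟩) (fun a b => by
    apply Subtype.ext
    show t * (a.1 * b.1) * t⁻¹ = (t * a.1 * t⁻¹) * (t * b.1 * t⁻¹)
    group)
  have hinv : t⁻¹ = t := inv_eq_of_mul_eq_one_left ht
  have h1 : MonoidHom.FixedPointFree φ := by
    intro g hg
    apply Subtype.ext
    exact hf g.1 g.2 (congrArg Subtype.val hg)
  have h2 : Function.Involutive φ := by
    intro g
    apply Subtype.ext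
    show t * (t * g.1 * t⁻¹) * t⁻¹ = g.1
    rw [hinv]
    have : t * (t * g.1 * t) * t = (t * t) * g.1 * (t * t) := by group
    rw [this, ht]
    group
  have h3 := h1.coe_eq_inv_of_involutive h2
  intro h hh
  have h4 := congrFun h3 ⟨h, hh⟩
  exact congrArg Subtype.val h4

/-- Parity of the number of fixed points of an involution. -/
theorem card_fix_mod_two {β : Type*} [Fintype β] (τ : β → β) (hτ : ∀ x, τ (τ x) = x) :
    Nat.card {x : β // τ x = x} % 2 = Fintype.card β % 2 := by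
  classical
  let f' : Function.End β := τ
  have h2 : (f') ^ 2 ^ 1 = 1 := by
    have h4 : ∀ y : β, (f' ^ 2 ^ 1 : Function.End β) y = y := by
      intro y
      show τ (τ y) = y
      exact hτ y
    exact funext h4
  haveI : Fact (Nat.Prime 2) := ⟨Nat.prime_two⟩
  have h5 := Equiv.Perm.card_fixedPoints_modEq (p := 2) (n := 1) (f := f') h2
  have h6 : Nat.card {x : β // τ x = x} = Fintype.card (Function.fixedPoints f') := by
    rw [Nat.card_eq_fintype_card]
    exact Fintype.card_congr (Equiv.refl _)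
  rw [h6]
  exact h5.symm

/-- Conversion from the subgroup form. -/
theorem sharp3_of_subgroup {α : Type*} [DecidableEq α] (G : Subgroup (Equiv.Perm α))
    (h3 : MulAction.IsMultiplyPretransitive G α 3)
    (hsharp : ∀ x : Fin 3 ↪ α, MulAction.stabilizer G x = ⊥) : Sharp3 G α := by
  have hemb : ∀ a b c : α, a ≠ b → a ≠ c → b ≠ c → ∃ x : Fin 3 ↪ α, x 0 = a ∧ x 1 = b ∧ x 2 = c := by
    intro a b c hab hac hbc
    refine ⟨⟨![a, b, c], ?_⟩, rfl, rfl, rfl⟩
    intro i j hij
    fin_cases i <;> fin_cases j <;> simp_all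
  constructor
  · intro a b c a' b' c' h1 h2 h4 h5 h6 h7
    obtain ⟨x, hx0, hx1, hx2⟩ := hemb a b c h1 h2 h4
    obtain ⟨y, hy0, hy1, hy2⟩ := hemb a' b' c' h5 h6 h7
    obtain ⟨g, hg⟩ := h3.exists_smul_eq x y
    refine ⟨g, ?_, ?_, ?_⟩
    · rw [← hx0, ← hy0, ← hg]; rfl
    · rw [← hx1, ← hy1, ← hg]; rfl
    · rw [← hx2, ← hy2, ← hg]; rfl
  · intro g a b c h1 h2 h4 h5 h6 h7
    obtain ⟨x, hx0, hx1, hx2⟩ := hemb a b c h1 h2 h4
    have h8 : g ∈ MulAction.stabilizer G x := by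
      rw [MulAction.mem_stabilizer_iff]
      ext i
      fin_cases i
      · show g • x 0 = x 0
        rw [hx0]; exact h5
      · show g • x 1 = x 1
        rw [hx1]; exact h6
      · show g • x 2 = x 2
        rw [hx2]; exact h7
    rw [hsharp x] at h8
    exact Subgroup.mem_bot.1 h8

end Cfsg.Agent.H03.PR
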