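import Mathlib
import Cfsg.Prelude.Def_Classical
import Cfsg.Agent.Lib.H03.F4

/-! `PSU₄(2) ≅ PSp₄(3)`: the data. -/

set_option autoImplicit false
set_option maxRecDepth 100000

namespace Cfsg.Agent.H03.U4S4

open Matrix

abbrev Z3 := ZMod 3
abbrev V3 := Fin 2 ⊕ Fin 2 → Z3
abbrev V4 := Fin 4 → GF4

def tab3 : Fin 40 → Fin 4 → Z3 := ![
  ![0, 0, 0, 1],
  ![0, 0, 1, 0],
  ![0, 0, 1, 1],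
  ![0, 0, 1, 2],
  ![0, 1, 0, 0],
  ![0, 1, 0, 1],
  ![0, 1, 0, 2],
  ![0, 1, 1, 0],
  ![0, 1, 1, 1],
  ![0, 1, 1, 2],
  ![0, 1, 2, 0],
  ![0, 1, 2, 1],
  ![0, 1, 2, 2],
  ![1, 0, 0, 0],
  ![1, 0, 0, 1],
  ![1, 0, 0, 2],
  ![1, 0, 1, 0],
  ![1, 0, 1, 1],
  ![1, 0, 1, 2],
  ![1, 0, 2, 0],
  ![1, 0, 2, 1],
  ![1, 0, 2, 2],
  ![1, 1, 0, 0],
  ![1, 1, 0, 1],
  ![1, 1, 0, 2],
  ![1, 1, 1, 0],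
  ![1, 1, 1, 1],
  ![1, 1, 1, 2],
  ![1, 1, 2, 0],
  ![1, 1, 2, 1],
  ![1, 1, 2, 2],
  ![1, 2, 0, 0],
  ![1, 2, 0, 1],
  ![1, 2, 0, 2],
  ![1, 2, 1, 0],
  ![1, 2, 1, 1],
  ![1, 2, 1, 2],
  ![1, 2, 2, 0],
  ![1, 2, 2, 1],
  ![1, 2, 2, 2]]

def tab4 : Fin 40 → Fin 4 → GF4 := ![
  ![GF4.o, GF4.o, GF4.o, GF4.i],
  ![GF4.o, GF4.o, GF4.i, GF4.o],
  ![GF4.o, GF4.i, GF4.o, GF4.o],
  ![GF4.i, GF4.o, GF4.o, GF4.o],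
  ![GF4.i, GF4.i, GF4.o, GF4.i],
  ![GF4.i, GF4.i, GF4.o, GF4.w],
  ![GF4.i, GF4.i, GF4.o, GF4.v],
  ![GF4.i, GF4.w, GF4.o, GF4.v],
  ![GF4.i, GF4.w, GF4.o, GF4.i],
  ![GF4.i, GF4.w, GF4.o, GF4.w],
  ![GF4.i, GF4.v, GF4.o, GF4.w],
  ![GF4.i, GF4.v, GF4.o, GF4.v],
  ![GF4.i, GF4.v, GF4.o, GF4.i],
  ![GF4.i, GF4.i, GF4.i, GF4.o],
  ![GF4.i, GF4.w, GF4.v, GF4.o],
  ![GF4.i, GF4.v, GF4.w, GF4.o],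
  ![GF4.i, GF4.i, GF4.w, GF4.o],
  ![GF4.i, GF4.w, GF4.i, GF4.o],
  ![GF4.i, GF4.v, GF4.v, GF4.o],
  ![GF4.i, GF4.i, GF4.v, GF4.o],
  ![GF4.i, GF4.w, GF4.w, GF4.o],
  ![GF4.i, GF4.v, GF4.i, GF4.o],
  ![GF4.o, GF4.i, GF4.i, GF4.i],
  ![GF4.o, GF4.i, GF4.i, GF4.w],
  ![GF4.o, GF4.i, GF4.i, GF4.v],
  ![GF4.o, GF4.i, GF4.w, GF4.i],
  ![GF4.o, GF4.i, GF4.w, GF4.w],
  ![GF4.o, GF4.i, GF4.w, GF4.v],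
  ![GF4.o, GF4.i, GF4.v, GF4.i],
  ![GF4.o, GF4.i, GF4.v, GF4.w],
  ![GF4.o, GF4.i, GF4.v, GF4.v],
  ![GF4.i, GF4.o, GF4.i, GF4.i],
  ![GF4.i, GF4.o, GF4.i, GF4.v],
  ![GF4.i, GF4.o, GF4.i, GF4.w],
  ![GF4.i, GF4.o, GF4.w, GF4.i],
  ![GF4.i, GF4.o, GF4.w, GF4.v],
  ![GF4.i, GF4.o, GF4.w, GF4.w],
  ![GF4.i, GF4.o, GF4.v, GF4.i],
  ![GF4.i, GF4.o, GF4.v, GF4.v],
  ![GF4.i, GF4.o, GF4.v, GF4.w]]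

def nx : Fin 40 → Fin 40 → Fin 40 := ![
  ![0, 1, 2, 3, 6, 4, 5, 9, 7, 8, 12, 10, 11, 13, 14, 15, 16, 17, 18, 19, 20, 21, 24, 22, 23, 27, 25, 26, 30, 28, 29, 32, 33, 31, 35, 36, 34, 38, 39, 37],
  ![0, 1, 2, 3, 4, 5, 6, 7, 8, 9, 10, 11, 12, 19, 20, 21, 13, 14, 15, 16, 17, 18, 28, 29, 30, 22, 23, 24, 25, 26, 27, 37, 38, 39, 31, 32, 33, 34, 35, 36],
  ![0, 1, 2, 3, 12, 10, 11, 6, 4, 5, 9, 7, 8, 21, 19, 20, 15, 13, 14, 18, 16, 17, 26, 27, 25, 29, 30, 28, 23, 24, 22, 31, 32, 33, 34, 35, 36, 37, 38, 39],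
  ![0, 1, 2, 3, 9, 7, 8, 12, 10, 11, 6, 4, 5, 20, 21, 19, 14, 15, 13, 17, 18, 16, 22, 23, 24, 25, 26, 27, 28, 29, 30, 36, 34, 35, 39, 37, 38, 33, 31, 32],
  ![5, 1, 8, 11, 4, 6, 0, 7, 12, 3, 10, 9, 2, 13, 23, 33, 16, 26, 36, 19, 29, 39, 22, 32, 15, 25, 35, 18, 28, 38, 21, 31, 14, 24, 34, 17, 27, 37, 20, 30],
  ![6, 1, 9, 12, 0, 5, 4, 3, 8, 10, 2, 11, 7, 13, 24, 32, 16, 27, 35, 19, 30, 38, 15, 23, 31, 18, 26, 34, 21, 29, 37, 14, 22, 33, 17, 25, 36, 20, 28, 39],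
  ![4, 1, 7, 10, 5, 0, 6, 11, 3, 9, 8, 2, 12, 13, 22, 31, 16, 25, 34, 19, 28, 37, 33, 15, 24, 36, 18, 27, 39, 21, 30, 23, 32, 14, 26, 35, 17, 29, 38, 20],
  ![8, 1, 11, 5, 4, 12, 2, 7, 9, 0, 10, 6, 3, 37, 14, 27, 31, 17, 30, 34, 20, 24, 19, 23, 36, 13, 26, 39, 16, 29, 33, 28, 32, 18, 22, 35, 21, 25, 38, 15],
  ![9, 1, 12, 6, 2, 5, 10, 0, 8, 7, 3, 11, 4, 39, 14, 25, 33, 17, 28, 36, 20, 22, 35, 19, 24, 38, 13, 27, 32, 16, 30, 31, 18, 29, 34, 21, 23, 37, 15, 26],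
  ![7, 1, 10, 4, 11, 2, 6, 8, 0, 9, 5, 3, 12, 38, 14, 26, 32, 17, 29, 35, 20, 23, 22, 34, 19, 25, 37, 13, 28, 31, 16, 18, 30, 33, 21, 24, 36, 15, 27, 39],
  ![11, 1, 5, 8, 4, 9, 3, 7, 6, 2, 10, 12, 0, 28, 35, 15, 22, 38, 18, 25, 32, 21, 37, 17, 24, 31, 20, 27, 34, 14, 30, 19, 26, 33, 13, 29, 36, 16, 23, 39],
  ![12, 1, 6, 9, 3, 5, 7, 2, 8, 4, 0, 11, 10, 29, 34, 15, 23, 37, 18, 26, 31, 21, 22, 39, 17, 25, 33, 20, 28, 36, 14, 27, 32, 19, 30, 35, 13, 24, 38, 16],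
  ![10, 1, 4, 7, 8, 3, 6, 5, 2, 9, 11, 0, 12, 30, 36, 15, 24, 39, 18, 27, 33, 21, 17, 23, 38, 20, 26, 32, 14, 29, 35, 31, 19, 25, 34, 13, 28, 37, 16, 22],
  ![0, 16, 17, 18, 4, 5, 6, 25, 26, 27, 34, 36, 35, 13, 14, 15, 19, 21, 20, 1, 3, 2, 22, 23, 24, 37, 39, 38, 10, 11, 12, 31, 32, 33, 28, 30, 29, 7, 9, 8],
  ![0, 17, 18, 16, 32, 31, 33, 7, 8, 9, 29, 30, 28, 13, 14, 15, 21, 20, 19, 2, 1, 3, 6, 4, 5, 25, 26, 27, 36, 35, 34, 24, 23, 22, 11, 10, 12, 37, 38, 39],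
  ![0, 18, 16, 17, 24, 22, 23, 39, 38, 37, 10, 11, 12, 13, 14, 15, 20, 19, 21, 3, 2, 1, 32, 31, 33, 8, 9, 7, 28, 29, 30, 6, 5, 4, 34, 35, 36, 26, 25, 27],
  ![0, 19, 20, 21, 4, 5, 6, 28, 29, 30, 37, 39, 38, 1, 3, 2, 16, 17, 18, 13, 15, 14, 10, 11, 12, 25, 26, 27, 31, 33, 32, 7, 9, 8, 34, 35, 36, 22, 24, 23],
  ![0, 20, 21, 19, 35, 34, 36, 7, 8, 9, 23, 24, 22, 2, 1, 3, 16, 17, 18, 15, 14, 13, 39, 38, 37, 6, 4, 5, 28, 29, 30, 31, 32, 33, 27, 26, 25, 11, 10, 12],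
  ![0, 21, 19, 20, 27, 25, 26, 33, 32, 31, 10, 11, 12, 3, 2, 1, 16, 17, 18, 14, 13, 15, 22, 23, 24, 35, 34, 36, 8, 9, 7, 29, 28, 30, 6, 5, 4, 37, 38, 39],
  ![0, 13, 14, 15, 4, 5, 6, 22, 23, 24, 31, 33, 32, 16, 18, 17, 1, 3, 2, 19, 20, 21, 34, 36, 35, 10, 11, 12, 28, 29, 30, 25, 27, 26, 7, 9, 8, 37, 38, 39],
  ![0, 14, 15, 13, 38, 37, 39, 7, 8, 9, 26, 27, 25, 18, 17, 16, 2, 1, 3, 19, 20, 21, 22, 23, 24, 33, 32, 31, 6, 4, 5, 11, 10, 12, 34, 35, 36, 30, 29, 28],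
  ![0, 15, 13, 14, 30, 28, 29, 36, 35, 34, 10, 11, 12, 17, 16, 18, 3, 2, 1, 19, 20, 21, 8, 9, 7, 25, 26, 27, 38, 37, 39, 31, 32, 33, 23, 22, 24, 6, 5, 4],
  ![23, 25, 30, 3, 4, 32, 14, 34, 21, 9, 16, 11, 39, 13, 33, 5, 37, 12, 18, 7, 20, 35, 22, 24, 0, 28, 2, 27, 1, 29, 26, 31, 15, 6, 19, 8, 36, 10, 38, 17],
  ![24, 26, 28, 3, 14, 5, 31, 7, 36, 21, 38, 16, 12, 13, 32, 6, 39, 10, 18, 8, 20, 34, 0, 23, 22, 25, 29, 2, 27, 1, 30, 15, 4, 33, 9, 35, 19, 37, 17, 11],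
  ![22, 27, 29, 3, 33, 14, 6, 21, 8, 35, 10, 37, 16, 13, 31, 4, 38, 11, 18, 9, 20, 36, 23, 0, 24, 2, 26, 30, 28, 25, 1, 5, 32, 15, 34, 19, 7, 17, 12, 39],
  ![26, 28, 24, 3, 4, 35, 17, 37, 15, 9, 19, 11, 33, 7, 14, 38, 16, 36, 5, 31, 12, 21, 1, 23, 29, 25, 27, 0, 22, 2, 30, 10, 32, 20, 34, 18, 6, 13, 8, 39],
  ![27, 29, 22, 3, 17, 5, 34, 7, 39, 15, 32, 19, 12, 8, 14, 37, 16, 35, 6, 33, 10, 21, 30, 1, 24, 0, 26, 25, 28, 23, 2, 31, 20, 11, 18, 4, 36, 9, 38, 13],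
  ![25, 30, 23, 3, 36, 17, 6, 15, 8, 38, 10, 31, 19, 9, 14, 39, 16, 34, 4, 32, 11, 21, 22, 28, 1, 26, 0, 27, 2, 29, 24, 20, 12, 33, 5, 35, 18, 37, 13, 7],
  ![29, 22, 27, 3, 4, 38, 20, 31, 18, 9, 13, 11, 36, 34, 12, 15, 7, 17, 32, 19, 39, 5, 25, 2, 24, 1, 26, 23, 28, 30, 0, 16, 8, 33, 10, 35, 14, 37, 21, 6],
  ![30, 23, 25, 3, 20, 5, 37, 7, 33, 18, 35, 13, 12, 36, 10, 15, 8, 17, 31, 19, 38, 6, 22, 26, 2, 24, 1, 27, 0, 29, 28, 9, 32, 16, 34, 14, 11, 21, 4, 39],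
  ![28, 24, 26, 3, 39, 20, 6, 18, 8, 32, 10, 34, 13, 35, 11, 15, 9, 17, 33, 19, 37, 4, 2, 23, 27, 25, 22, 1, 29, 0, 30, 31, 16, 7, 14, 12, 36, 5, 38, 21],
  ![33, 34, 2, 38, 4, 24, 15, 16, 8, 29, 25, 20, 12, 13, 5, 23, 28, 17, 9, 10, 27, 21, 22, 6, 14, 19, 26, 11, 7, 18, 30, 31, 0, 32, 37, 35, 3, 1, 36, 39],
  ![31, 35, 2, 39, 23, 15, 6, 7, 28, 16, 20, 11, 27, 13, 4, 22, 30, 17, 8, 12, 26, 21, 5, 14, 24, 25, 10, 19, 18, 29, 9, 33, 32, 0, 3, 38, 36, 37, 1, 34],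
  ![32, 36, 2, 37, 15, 5, 22, 30, 16, 9, 10, 26, 20, 13, 6, 24, 29, 17, 7, 11, 25, 21, 14, 23, 4, 12, 19, 27, 28, 8, 18, 0, 31, 33, 34, 3, 39, 35, 38, 1],
  ![36, 37, 2, 32, 4, 27, 18, 19, 8, 23, 28, 14, 12, 10, 30, 15, 16, 5, 26, 22, 20, 9, 7, 21, 24, 25, 6, 17, 13, 29, 11, 1, 39, 33, 34, 0, 35, 31, 38, 3],
  ![34, 38, 2, 33, 26, 18, 6, 7, 22, 19, 14, 11, 30, 12, 29, 15, 16, 4, 25, 24, 20, 8, 21, 23, 9, 5, 17, 27, 28, 10, 13, 31, 1, 37, 36, 35, 0, 3, 32, 39],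
  ![35, 39, 2, 31, 18, 5, 25, 24, 19, 9, 10, 29, 14, 11, 28, 15, 16, 6, 27, 23, 20, 7, 22, 8, 21, 17, 26, 4, 12, 13, 30, 38, 32, 1, 0, 34, 36, 37, 3, 33],
  ![39, 31, 2, 35, 4, 30, 21, 13, 8, 26, 22, 17, 12, 25, 14, 9, 10, 24, 18, 19, 5, 29, 16, 23, 11, 7, 15, 27, 28, 6, 20, 34, 32, 3, 1, 33, 36, 37, 0, 38],
  ![37, 32, 2, 36, 29, 21, 6, 7, 25, 13, 17, 11, 24, 27, 14, 8, 12, 23, 18, 19, 4, 28, 22, 10, 16, 15, 26, 9, 5, 20, 30, 3, 35, 33, 34, 1, 31, 39, 38, 0],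
  ![38, 33, 2, 34, 21, 5, 28, 27, 13, 9, 10, 23, 17, 26, 14, 7, 11, 22, 18, 19, 6, 30, 12, 16, 24, 25, 8, 15, 20, 29, 4, 31, 3, 36, 32, 35, 1, 0, 37, 39]]

/-- The 40 points of `P³(F₃)`. -/
def p3 (x : Fin 40) : V3 := Sum.elim (fun i => tab3 x (Fin.castAdd 2 i)) (fun i => tab3 x (Fin.natAdd 2 i))

/-- The 40 nonisotropic points of `F₄⁴` -/
def p4 (x : Fin 40) : V4 := tab4 x

/-- the symplectic form -/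
def sf (x y : V3) : Z3 := ∑ i : Fin 2, (x (Sum.inr i) * y (Sum.inl i) - x (Sum.inl i) * y (Sum.inr i))

def tvec (z x : Fin 40) : V3 := p3 x + (sf (p3 x) (p3 z)) • p3 z

def rvec (z x : Fin 40) : V4 := p4 x + (GF4.w * Cfsg.hermForm 4 GF4 2 (p4 x) (p4 z)) • p4 z

lemma check0 : ∀ z x : Fin 40, (∃ l : Z3, tvec z x = l • p3 (nx z x)) ∧ (∃ m : GF4, rvec z x = m • p4 (nx z x)) := by
  decide +kernel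

lemma check (z x : Fin 40) : ∃ y : Fin 40, (∃ l : Z3, tvec z x = l • p3 y) ∧ (∃ m : GF4, rvec z x = m • p4 y) :=
  ⟨_, check0 z x⟩

lemma cover3 : ∀ u : V3, u ≠ 0 → ∃ z : Fin 40, ∃ l : Z3, u = l • p3 z := by
  decide +kernel

lemma inj3 : ∀ x y : Fin 40, ∀ l : Z3, p3 x = l • p3 y → x = y := by
  decide +kernel

lemma inj4 : ∀ x y : Fin 40, ∀ c m : GF4, c ≠ 0 → c • p4 x = m • p4 y → x = y := by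
  decide +kernel

lemma norm4 : ∀ z : Fin 40, Cfsg.hermForm 4 GF4 2 (p4 z) (p4 z) = 1 := by
  decide +kernel

lemma sing3 : ∀ j : Fin 2 ⊕ Fin 2, ∃ x : Fin 40, p3 x = Pi.single j 1 := by
  decide +kernel

lemma sing4 : ∀ j : Fin 4, ∃ x : Fin 40, p4 x = Pi.single j 1 := by
  decide +kernel

lemma tri3 : ∀ i j k : Fin 2 ⊕ Fin 2, i ≠ j → i ≠ k → j ≠ k → ∃ x : Fin 40, ∃ c : Z3, c ≠ 0 ∧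
    c • p3 x = Pi.single i 1 + Pi.single j 1 + Pi.single k 1 := by
  decide +kernel

lemma tri4 : ∀ i j k : Fin 4, i ≠ j → i ≠ k → j ≠ k → ∃ x : Fin 40, ∃ c : GF4, c ≠ 0 ∧
    c • p4 x = Pi.single i 1 + Pi.single j 1 + Pi.single k 1 := by
  decide +kernel

end Cfsg.Agent.H03.U4S4
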